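import Cfsg.Agent.Omega.EH3.CoTwo.Tri

/-!
# EH3, row `Co₂` : the facts about `K` (helper665; #12091, #12404)

`X, Ξ, Ξ_f, P` are subgroups of the finite group `H`, `N = N_H(X)` is the stabiliser of `a`.
-/

set_option autoImplicit false

namespace Cfsg.Agent.Omega.EH3.CoTwo

open Subgroup Cfsg.Agent.Omega.EH3

/-- the facts on `K` used in the row `Co₂` (`Xi = Ξ`, `Xf = Ξ_f`). -/
structure CoFacts {H : Type*} [Group H] (X Xi Xf P : Subgroup H) : Prop where
  card : Nat.card X = 2 ^ 10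
  r89 : ¬ 89 ∣ Nat.card H
  irr : ∀ Y : Subgroup H, Y ≤ X → Y ≠ ⊥ →
    normalizer (X : Set H) ≤ normalizer (Y : Set H) → Y = X
  pi_le : Xi ≤ X
  pi_card : Nat.card Xi = 2 ^ 9
  pi_ind : (normalizer (X : Set H) ⊓ normalizer (Xi : Set H)).relIndex
    (normalizer (X : Set H)) = 22
  pi_two : ∀ U : Subgroup H, U ≤ normalizer (X : Set H) ⊓ normalizer (Xi : Set H) →
    IsPGroup 2 U → normalizer (X : Set H) ⊓ normalizer (Xi : Set H) ≤ normalizer (U : Set H) →
    U ≤ X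
  pi_min : ∀ Y : Subgroup H, Y ≤ X → Y ≠ ⊥ →
    normalizer (X : Set H) ⊓ normalizer (Xi : Set H) ≤ normalizer (Y : Set H) → Xi ≤ Y
  pi_cen : normalizer (X : Set H) ⊓ centralizer (Xi : Set H) ≤ X
  X_P : X ≤ P
  P_ind : (P ⊓ normalizer (X : Set H)).relIndex P = 3
  Xf_def : ∀ x : H, x ∈ Xf ↔ x ∈ X ∧ ∀ g ∈ P, g * x * g⁻¹ ∈ normalizer (X : Set H)
  f_uniq : ∀ Y : Subgroup H, Y ≤ X → Nat.card Y = 2 ^ 9 →
    normalizer (X : Set H) ⊓ normalizer (Xf : Set H) ≤ normalizer (Y : Set H) → Y = Xf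
  f_max : ∀ R : Subgroup H, R ≤ Xf → R ≠ Xf →
    normalizer (X : Set H) ⊓ normalizer (Xf : Set H) ≤ normalizer (R : Set H) → R ≤ Xi
  f_ne : Xi ≠ Xf

variable {H V : Type*} [Group H] [AddCommGroup V] [Module (ZMod 2) V]
  {ρ : H →* (V ≃ₗ[ZMod 2] V)} {b : LinearMap.BilinForm (ZMod 2) V} {q : V → ZMod 2}
  {a : V} {D : Submodule (ZMod 2) V} {X : Subgroup H} {w : ℕ}

/-- `N_H(X) = H_a`. -/
theorem mem_N_iff (C : Cfg ρ b q a D X w) {h : H} :
    h ∈ normalizer (X : Set H) ↔ ρ h a = a := by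
  constructor
  · intro hh
    have h1 : ρ h a = 0 ∨ ρ h a = a := by
      apply fix_X C
      intro x hx
      have h2 : h⁻¹ * x * h ∈ X := by
        have h3 := (mem_normalizer_iff.1 (inv_mem hh) x).1 hx
        rwa [inv_inv] at h3
      have h4 := C.X_a h2
      rw [← C.ρ_mul]
      have h5 : x * h = h * (h⁻¹ * x * h) := by group
      rw [h5, C.ρ_mul, h4]
    rcases h1 with h1 | h1
    · exfalso
      apply C.a_ne
      have h2 := C.ρ_inv_apply h a
      rw [h1, map_zero] at h2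
      exact h2.symm
    · exact h1
  · intro hh
    rw [mem_normalizer_iff]
    intro x
    constructor
    · exact fun hx => C.X_norm h hh x hx
    · intro hx
      have h1 := C.X_norm h⁻¹ (C.fix_inv hh) _ hx
      have h2 : h⁻¹ * (h * x * h⁻¹) * h⁻¹⁻¹ = x := by group
      rwa [h2] at h1

end Cfsg.Agent.Omega.EH3.CoTwo
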