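import Cfsg.Agent.Omega.EH3.CoTwo.Stab

/-!
# EH3, row `Co₂`, (3), (4): `x̃` is not conjugate to `a`, `N_H(Ξ) ≤ H_a` (helper665)
-/

set_option autoImplicit false
set_option linter.unusedSectionVars false
set_option linter.unusedVariables false

namespace Cfsg.Agent.Omega.EH3.CoTwo

open Subgroup Cfsg.Agent.Omega.EH3

variable {H V : Type*} [Group H] [AddCommGroup V] [Module (ZMod 2) V]
  {ρ : H →* (V ≃ₗ[ZMod 2] V)} {b : LinearMap.BilinForm (ZMod 2) V} {q : V → ZMod 2}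
  {a : V} {D : Submodule (ZMod 2) V} {X : Subgroup H} {w : ℕ} {Xi Xf P : Subgroup H}

section

variable (C : Cfg ρ b q a D X w) (F : CoFacts X Xi Xf P) {x : V} (hx : Pt ρ a D X Xi x)

include C F hx in
/-- `|H_a| ≤ 44 |J|`. -/
theorem card_St_le : Nat.card (St ρ a) ≤ 44 * Nat.card (St ρ a ⊓ St ρ x : Subgroup H) := by
  have hfin := C.finite_H
  obtain ⟨s, hs, hs', hsx⟩ := exists_s C F hx
  have h1 := card_mul_relIndex' (inf_le_left :
    normalizer (X : Set H) ⊓ normalizer (Xi : Set H) ≤ normalizer (X : Set H))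
  rw [F.pi_ind, normalizer_X C] at h1
  have hle : St ρ a ⊓ St ρ x ≤ normalizer (X : Set H) ⊓ normalizer (Xi : Set H) := by
    intro g hg
    exact (mem_Ni C F hx).2 ⟨hg.1, Or.inl hg.2⟩
  have h2 : (St ρ a ⊓ St ρ x).relIndex (normalizer (X : Set H) ⊓ normalizer (Xi : Set H)) ∣ 2 := by
    rw [relIindex_dvd_two_iff']
    refine ⟨s, (mem_Ni C F hx).2 ⟨C.X_a hs, Or.inr hsx⟩, fun g hg => ?_⟩
    obtain ⟨hga, hgx⟩ := (mem_Ni C F hx).1 hg
    rcases hgx with h | h
    · exact Or.inr ⟨hga, h⟩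
    · left
      refine ⟨?_, ?_⟩
      · show ρ (s * g) a = a
        rw [C.ρ_mul, hga, C.X_a hs]
      · show ρ (s * g) x = x
        rw [C.ρ_mul, h, map_add, hsx, C.X_a hs, C.add_add_self]
  have h3 := card_mul_relIndex' hle
  have h4 := Nat.le_of_dvd (by norm_num) h2
  rw [normalizer_X C] at h3 h4
  have h5 : Nat.card (St ρ a ⊓ normalizer (Xi : Set H) : Subgroup H) ≤
      Nat.card (St ρ a ⊓ St ρ x : Subgroup H) * 2 := by
    rw [← h3]
    exact Nat.mul_le_mul_left _ h4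
  omega

include C F hx in
/-- **(3)** `x̃` is not conjugate to `a`. -/
theorem not_conj (h : H) : ρ h a ≠ x := by
  intro hh
  have hfin := C.finite_H
  -- the conjugate `X' = h X h⁻¹`
  let X' : Subgroup H := X.map (MulAut.conj h).toMonoidHom
  have hX' : ∀ y, y ∈ X' ↔ h⁻¹ * y * h ∈ X := by
    intro y
    constructor
    · rintro ⟨z, hz, rfl⟩
      show h⁻¹ * (h * z * h⁻¹) * h ∈ X
      have : h⁻¹ * (h * z * h⁻¹) * h = z := by group
      rw [this]; exact hz
    · intro hy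
      refine ⟨h⁻¹ * y * h, hy, ?_⟩
      show h * (h⁻¹ * y * h) * h⁻¹ = y
      group
  have hix : ρ h⁻¹ x = a := by rw [← hh]; exact C.ρ_inv_apply h a
  have hX'x : ∀ y ∈ X', ρ y x = x := by
    intro y hy
    have h1 := C.X_a ((hX' y).1 hy)
    rw [C.ρ_mul, C.ρ_mul, hh] at h1
    have h2 := congrArg (ρ h) h1
    rwa [C.ρ_apply_inv, hh] at h2
  have hX'n : ∀ g, ρ g x = x → ∀ y ∈ X', g * y * g⁻¹ ∈ X' := by
    intro g hg y hy
    rw [hX']
    have h1 : ρ (h⁻¹ * g * h) a = a := by rw [C.ρ_mul, C.ρ_mul, hh, hg, hix]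
    have h2 := C.X_norm _ h1 _ ((hX' y).1 hy)
    have h3 : h⁻¹ * g * h * (h⁻¹ * y * h) * (h⁻¹ * g * h)⁻¹ = h⁻¹ * (g * y * g⁻¹) * h := by group
    rwa [h3] at h2
  have hX'c : Nat.card X' = 2 ^ 10 := by
    rw [← F.card]
    exact Nat.card_congr (X.equivMapOfInjective _ (MulAut.conj h).injective).symm.toEquiv
  have hX'sq : ∀ y ∈ X', y * y = 1 := by
    intro y hy
    have h1 := C.X_sq _ ((hX' y).1 hy)
    have h2 : h * (h⁻¹ * y * h * (h⁻¹ * y * h)) * h⁻¹ = y * y := by group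
    rw [← h2, h1]; group
  have hX'comm : ∀ y ∈ X', ∀ z ∈ X', y * z = z * y := by
    intro y hy z hz
    have h1 := C.X_comm ((hX' y).1 hy) ((hX' z).1 hz)
    have h2 : h * (h⁻¹ * y * h * (h⁻¹ * z * h)) * h⁻¹ = y * z := by group
    have h3 : h * (h⁻¹ * z * h * (h⁻¹ * y * h)) * h⁻¹ = z * y := by group
    rw [← h2, h1, h3]
  -- `U = J ∩ X'`
  let U : Subgroup H := (St ρ a ⊓ St ρ x) ⊓ X'
  have hUJ : ∀ g, ρ g a = a → ρ g x = x → ∀ u ∈ U, g * u * g⁻¹ ∈ U := by
    intro g hga hgx u hu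
    have hgJ : g ∈ (St ρ a ⊓ St ρ x : Subgroup H) := mem_inf.2 ⟨hga, hgx⟩
    have huJ : u ∈ (St ρ a ⊓ St ρ x : Subgroup H) := (mem_inf.1 hu).1
    exact mem_inf.2 ⟨(St ρ a ⊓ St ρ x).mul_mem ((St ρ a ⊓ St ρ x).mul_mem hgJ huJ)
      ((St ρ a ⊓ St ρ x).inv_mem hgJ), hX'n g hgx u (mem_inf.1 hu).2⟩
  have hU2 : IsPGroup 2 U := by
    intro y
    refine ⟨1, Subtype.ext ?_⟩
    show (y : H) ^ (2 ^ 1) = 1
    rw [pow_one, pow_two]
    exact hX'sq y y.2.2
  have hUXi : U ≤ Xi := stab_two C F hx U (fun u hu => ⟨hu.1.1, hu.1.2⟩) hU2 hUJ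
  have hUne : U ≠ ⊥ := by
    intro hU
    -- `J × X' → H_x` is injective
    have hSt : Nat.card (St ρ x) = Nat.card (St ρ a) := by
      refine Nat.card_congr ⟨fun g => ⟨h⁻¹ * g * h, ?_⟩, fun g => ⟨h * g * h⁻¹, ?_⟩, ?_, ?_⟩
      · show ρ (h⁻¹ * g * h) a = a
        rw [C.ρ_mul, C.ρ_mul, hh, show ρ (g : H) x = x from g.2, hix]
      · show ρ (h * g * h⁻¹) x = x
        rw [C.ρ_mul, C.ρ_mul, hix, show ρ (g : H) a = a from g.2, hh]
      · intro g
        apply Subtype.ext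
        show h * (h⁻¹ * g * h) * h⁻¹ = g
        group
      · intro g
        apply Subtype.ext
        show h⁻¹ * (h * g * h⁻¹) * h = g
        group
    let f : (St ρ a ⊓ St ρ x : Subgroup H) × X' → St ρ x := fun p =>
      ⟨(p.1 : H) * p.2, mul_mem p.1.2.2 (hX'x p.2 p.2.2)⟩
    have hf : Function.Injective f := by
      rintro ⟨⟨j, hj⟩, ⟨y, hy⟩⟩ ⟨⟨k, hk⟩, ⟨z, hz⟩⟩ hjk
      have h1 : j * y = k * z := congrArg Subtype.val hjk
      have h2 : k⁻¹ * j = z * y⁻¹ := by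
        have h3 : k⁻¹ * (j * y) * y⁻¹ = k⁻¹ * j := by group
        rw [← h3, h1]; group
      have h3 : k⁻¹ * j ∈ U := by
        refine mem_inf.2 ⟨(St ρ a ⊓ St ρ x).mul_mem ((St ρ a ⊓ St ρ x).inv_mem hk) hj, ?_⟩
        rw [h2]
        exact X'.mul_mem hz (X'.inv_mem hy)
      rw [hU, mem_bot] at h3
      have h4 : j = k := (inv_mul_eq_one.1 h3).symm
      subst h4
      have h5 : y = z := mul_left_cancel h1
      subst h5
      rfl
    have h1 := Nat.card_le_card_of_injective f hf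
    rw [Nat.card_prod, hX'c, hSt] at h1
    have h2 := card_St_le C F hx
    have h3 : 0 < Nat.card (St ρ a ⊓ St ρ x : Subgroup H) := Nat.card_pos
    omega
  have hU : U = Xi := (stab_irr C F hx U hUXi hUJ).resolve_left hUne
  have hXiX' : Xi ≤ X' := by
    rw [← hU]; exact inf_le_right
  -- `s'` in `X'` moving `a`
  obtain ⟨s', hs'X, hs'a⟩ : ∃ s' ∈ X', ρ s' a ≠ a := by
    by_contra hcon
    push Not at hcon
    have h1 : ∀ y ∈ X, ρ y (ρ h⁻¹ a) = ρ h⁻¹ a := by
      intro y hy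
      have h2 : h * y * h⁻¹ ∈ X' := ⟨y, hy, rfl⟩
      have h3 := hcon _ h2
      rw [C.ρ_mul, C.ρ_mul] at h3
      have h4 := congrArg (ρ h⁻¹) h3
      rwa [C.ρ_inv_apply] at h4
    rcases fix_X C h1 with h2 | h2
    · apply C.a_ne
      have h3 := C.ρ_apply_inv h a
      rw [h2, map_zero] at h3
      exact h3.symm
    · apply hx.nea
      rw [← hh]
      nth_rewrite 1 [← h2]
      exact C.ρ_apply_inv h a
  obtain ⟨s, hsX, hsXi, hsx⟩ := exists_s C F hx
  have hs'x : ρ s' x = x := hX'x s' hs'X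
  have hcs : ∀ y ∈ Xi, s * y * s⁻¹ = y := fun y hy => by
    rw [C.X_comm hsX (F.pi_le hy), mul_inv_cancel_right]
  have hcs' : ∀ y ∈ Xi, s' * y * s'⁻¹ = y := fun y hy => by
    rw [hX'comm s' hs'X y (hXiX' hy), mul_inv_cancel_right]
  have hs'a2 : ρ s' a = x + a := by
    have h1 : ∀ y ∈ Xi, ρ y (ρ s' a) = ρ s' a := by
      intro y hy
      rw [← C.ρ_mul, ← hX'comm s' hs'X y (hXiX' hy), C.ρ_mul, C.X_a (F.pi_le hy)]
    rcases fix_Xi C F hx _ h1 with h2 | h2 | h2 | h2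
    · exfalso
      apply C.a_ne
      have h3 := C.ρ_inv_apply s' a
      rw [h2, map_zero] at h3
      exact h3.symm
    · exact absurd h2 hs'a
    · exact absurd (C.ρ_inj s' (h2.trans hs'x.symm)).symm hx.nea
    · exact h2
  have hsa : ρ s a = a := C.X_a hsX
  -- `g = s s'`
  obtain ⟨g, hg⟩ : ∃ g, g = s * s' := ⟨_, rfl⟩
  have hga : ρ g a = x := by
    rw [hg, C.ρ_mul, hs'a2, map_add, hsx, hsa, C.add_add_self]
  have hgx : ρ g x = x + a := by
    rw [hg, C.ρ_mul, hs'x, hsx]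
  have hgxa : ρ g (x + a) = a := by
    rw [map_add, hgx, hga, add_assoc, add_comm a x, ← add_assoc, C.add_self, zero_add]
  have hcg : ∀ y ∈ Xi, g * y * g⁻¹ = y := by
    intro y hy
    have h1 : g * y * g⁻¹ = s * (s' * y * s'⁻¹) * s⁻¹ := by rw [hg]; group
    rw [h1, hcs' y hy, hcs y hy]
  have hccomm : ∀ y ∈ Xi, g * y = y * g := by
    intro y hy
    have h1 := hcg y hy
    calc g * y = g * y * g⁻¹ * g := by group
      _ = y * g := by rw [h1]
  have hg3a : ρ (g * g * g) a = a := by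
    rw [C.ρ_mul, C.ρ_mul, hga, hgx, hgxa]
  have hg3x : ρ (g * g * g) x = x := by
    rw [C.ρ_mul, C.ρ_mul, hgx, hgxa, hga]
  have hg3 : g * g * g ∈ X := by
    apply F.pi_cen
    refine mem_inf.2 ⟨(mem_N_iff C).2 hg3a, ?_⟩
    rw [mem_centralizer_iff]
    intro y hy
    have hy' : y ∈ Xi := hy
    have h1 := hccomm y hy'
    have h2 : Commute y g := h1.symm
    exact ((h2.mul_right h2).mul_right h2)
  have hg6 : (g * g * g) * (g * g * g) = 1 := C.X_sq _ hg3
  -- `d = g⁴`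
  obtain ⟨d, hd⟩ : ∃ d, d = g * g * g * g := ⟨_, rfl⟩
  have hd3 : d * d * d = 1 := by
    have h1 : d * d * d = (g * g * g) * (g * g * g) * ((g * g * g) * (g * g * g)) := by
      rw [hd]; simp only [mul_assoc]
    rw [h1, hg6, mul_one]
  have hda : ρ d a = x := by
    rw [hd, show g * g * g * g = g * (g * g * g) by simp only [mul_assoc], C.ρ_mul, hg3a, hga]
  have hdx : ρ d x = x + a := by
    rw [hd, show g * g * g * g = g * (g * g * g) by simp only [mul_assoc], C.ρ_mul, hg3x, hgx]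
  have hdxa : ρ d (x + a) = a := by
    rw [map_add, hdx, hda, add_assoc, add_comm a x, ← add_assoc, C.add_self, zero_add]
  have hcd' : ∀ y ∈ Xi, d * y = y * d := by
    intro y hy
    have h2 : Commute y g := (hccomm y hy).symm
    rw [hd]
    exact ((((h2.mul_right h2).mul_right h2).mul_right h2).eq).symm
  have hcd : ∀ y ∈ Xi, d * y * d⁻¹ = y := fun y hy => by
    rw [hcd' y hy, mul_inv_cancel_right]
  have hd3v : ∀ v, ρ d (ρ d (ρ d v)) = v := by
    intro v
    rw [← C.ρ_mul, ← C.ρ_mul, hd3, C.ρ_one]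
  -- `1 + d + d² = 0`
  have hone : ∀ v, v + ρ d v + ρ d (ρ d v) = 0 := by
    intro v
    let W : Submodule (ZMod 2) V :=
      { carrier := {v | ρ d v = v}
        zero_mem' := map_zero _
        add_mem' := by
          intro u v hu hv
          show ρ d (u + v) = u + v
          rw [map_add, show ρ d u = u from hu, show ρ d v = v from hv]
        smul_mem' := by
          intro r v hv
          show ρ d (r • v) = r • v
          rw [map_smul, show ρ d v = v from hv] }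
    have hW : ∀ v, v ∈ W ↔ ρ d v = v := fun _ => Iff.rfl
    by_contra hne
    have h1 : v + ρ d v + ρ d (ρ d v) ∈ W := by
      rw [hW, map_add, map_add, hd3v]
      abel
    have h2 : v + ρ d v + ρ d (ρ d v) ∉ (⊥ : Submodule (ZMod 2) V) := by
      rw [Submodule.mem_bot]; exact hne
    obtain ⟨u, huW, hu0, hu⟩ := exists_step C F.pi_le (F0 := W) (W := ⊥) (by
      intro z hz v hv
      rw [hW] at hv ⊢
      rw [← C.ρ_mul, hcd' z hz, C.ρ_mul, hv]) h1 h2
    rw [Submodule.mem_bot] at hu0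
    have hdu := (hW u).1 huW
    have hfu : ∀ y ∈ Xi, ρ y u = u := by
      intro y hy
      have h3 := hu y hy
      rw [Submodule.mem_bot] at h3
      exact (cm_eq_zero_iff C).1 h3
    rcases fix_Xi C F hx u hfu with h3 | h3 | h3 | h3
    · exact hu0 h3
    · rw [h3, hda] at hdu
      exact hx.nea hdu
    · rw [h3, hdx] at hdu
      apply C.a_ne
      have h4 : x + a = x + 0 := by rw [add_zero]; exact hdu
      exact add_left_cancel h4
    · rw [h3, hdxa] at hdu
      apply hx.ne0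
      have h4 : x + a = 0 + a := by rw [zero_add]; exact hdu.symm
      exact add_right_cancel h4
  -- `T` vanishes on `Ξ`
  obtain ⟨c, hc⟩ := C.exists_off
  obtain ⟨u, hu, v, hv, t, ht, hT⟩ := exists_TT_ne C F.card F.irr hc F.pi_le F.pi_card
  apply hT
  have h1 := congrArg (b a) (hone c)
  rw [map_add, map_add, map_zero, hc] at h1
  have h2 : b a (ρ d c) = 1 ∨ b a (ρ d (ρ d c)) = 1 := by
    have : ∀ r s : ZMod 2, 1 + r + s = 0 → r = 1 ∨ s = 1 := by decide
    exact this _ _ h1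
  rcases h2 with h2 | h2
  · exact TT_zero_of_three C F hc hcd hone h2 hu hv ht
  · refine TT_zero_of_three C F hc (e := d * d) ?_ ?_ ?_ hu hv ht
    · intro y hy
      have h3 : d * d * y * (d * d)⁻¹ = d * (d * y * d⁻¹) * d⁻¹ := by group
      rw [h3, hcd y hy, hcd y hy]
    · intro v
      rw [C.ρ_mul, C.ρ_mul, hd3v]
      have h3 : v + ρ d (ρ d v) + ρ d v = v + ρ d v + ρ d (ρ d v) := by abel
      rw [h3]
      exact hone v
    · rw [C.ρ_mul]; exact h2

include C F hx in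
/-- **(4)** `N_H(Ξ) ≤ H_a`. -/
theorem norm_Xi (g : H) (hg : g ∈ normalizer (Xi : Set H)) : ρ g a = a := by
  have h1 : ∀ y ∈ Xi, ρ y (ρ g a) = ρ g a := by
    intro y hy
    have h2 : g⁻¹ * y * g ∈ Xi := by
      have h3 := (mem_normalizer_iff.1 (inv_mem hg) y).1 hy
      rwa [inv_inv] at h3
    have h4 := C.X_a (F.pi_le h2)
    rw [← C.ρ_mul]
    have h5 : y * g = g * (g⁻¹ * y * g) := by group
    rw [h5, C.ρ_mul, h4]
  rcases fix_Xi C F hx _ h1 with h2 | h2 | h2 | h2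
  · exfalso
    apply C.a_ne
    have h3 := C.ρ_inv_apply g a
    rw [h2, map_zero] at h3
    exact h3.symm
  · exact h2
  · exact absurd h2 (not_conj C F hx g)
  · exact absurd h2 (not_conj C F (hx.add_a C) g)

end

end Cfsg.Agent.Omega.EH3.CoTwo
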