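import Cfsg.Agent.Omega.EH3.CoTwo.StabTwo

/-!
# EH3, row `Co₂` : steps (8) and (9) of #12091 / #12880 (helper737)

`PtH` : `x ∈ D`, `C_X(x) = Ξ`, `C_V(Ξ) = {0, a, x, x+a}`, `x, x + a ∉ a^H`, `N_H(Ξ) ≤ H_a`, `C_H(x) ≰ H_a`.
* `PtH.good8` : a 2-subgroup of `C_H(x)` normalised by `C_H(x)` is trivial;
* `PtH.good9` : a `C_H(x)`-invariant totally isotropic subspace containing `x` is `{0, x}`.
-/

set_option autoImplicit false
set_option linter.unusedSectionVars false

namespace Cfsg.Agent.Omega.EH3.CoTwo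

open Subgroup Cfsg.Agent.Omega.EH3

variable {H V : Type*} [Group H] [AddCommGroup V] [Module (ZMod 2) V]
  {ρ : H →* (V ≃ₗ[ZMod 2] V)} {b : LinearMap.BilinForm (ZMod 2) V} {q : V → ZMod 2}
  {a : V} {D : Submodule (ZMod 2) V} {X : Subgroup H} {w : ℕ} {Xi Xf P : Subgroup H}

/-- A subgroup of `X` has a fixed vector on `F / E`. -/
theorem exists_fix_mod (C : Cfg ρ b q a D X w) {E F : Submodule (ZMod 2) V} {Y : Subgroup H}
    (hY : Y ≤ X) (hE : ∀ y ∈ Y, ∀ v ∈ E, ρ y v ∈ E) (hF : ∀ y ∈ Y, ∀ v ∈ F, ρ y v ∈ F) {f : V}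
    (hf : f ∈ F) (hfE : f ∉ E) : ∃ v ∈ F, v ∉ E ∧ ∀ y ∈ Y, cm ρ y v ∈ E := by
  classical
  have := C.finite_H
  have key : ∀ S : Finset H, (∀ y ∈ S, y ∈ Y) → ∃ v ∈ F, v ∉ E ∧ ∀ y ∈ S, cm ρ y v ∈ E := by
    intro S
    induction S using Finset.induction_on with
    | empty => exact fun _ => ⟨f, hf, hfE, fun y hy => absurd hy (Finset.notMem_empty y)⟩
    | insert s S _ ih =>
      intro hS
      obtain ⟨v, hv, hvE, h⟩ := ih fun y hy => hS y (Finset.mem_insert_of_mem hy)
      have hs := hS s (Finset.mem_insert_self s S)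
      by_cases h1 : cm ρ s v ∈ E
      · refine ⟨v, hv, hvE, fun y hy => ?_⟩
        rcases Finset.mem_insert.1 hy with rfl | hy
        · exact h1
        · exact h y hy
      · refine ⟨cm ρ s v, F.add_mem (hF s hs v hv) hv, h1, fun y hy => ?_⟩
        rcases Finset.mem_insert.1 hy with rfl | hy
        · rw [cm_self C (hY hs)]
          exact E.zero_mem
        · have hyY := hS y (Finset.mem_insert_of_mem hy)
          rw [cm_comm C (C.X_comm (hY hyY) (hY hs))]
          exact E.add_mem (hE s hs _ (h y hy)) (h y hy)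
  have hfin : (Y : Set H).Finite := Set.toFinite _
  obtain ⟨v, hv, hvE, h⟩ := key hfin.toFinset fun y hy => by simpa using hy
  exact ⟨v, hv, hvE, fun y hy => h y (by simpa using hy)⟩

/-- the vector `x` of the functional with kernel `Ξ`. -/
structure PtH (ρ : H →* (V ≃ₗ[ZMod 2] V)) (a : V) (D : Submodule (ZMod 2) V) (X Xi : Subgroup H)
    (x : V) : Prop extends Cen ρ a D X Xi x where
  /-- (3) -/
  nconj : ∀ g, ρ g a ≠ x ∧ ρ g a ≠ x + a
  /-- (4) -/
  norm : ∀ g ∈ normalizer (Xi : Set H), ρ g a = a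
  /-- (7) -/
  move : ∃ g, ρ g x = x ∧ ρ g a ≠ a

namespace PtH

variable {x : V}

/-- **(8)** -/
theorem good8 (C : Cfg ρ b q a D X w) (F : CoFacts X Xi Xf P)
    (h : PtH ρ a D X Xi x) (U : Subgroup H) (hUx : ∀ u ∈ U, ρ u x = x) (hU : IsPGroup 2 U)
    (hn : ∀ k, ρ k x = x → ∀ u ∈ U, k * u * k⁻¹ ∈ U) : U = ⊥ := by
  have := C.finite_H
  have hXi2 : IsPGroup 2 Xi := by
    intro y
    refine ⟨1, ?_⟩
    rw [pow_one, pow_two]
    exact Subtype.ext (C.X_sq y (F.pi_le y.2))
  have h0 : U ⊓ St ρ a ≤ Xi := by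
    apply h.stab_two C F _ (fun u hu => ⟨(mem_inf.1 hu).2, hUx u (mem_inf.1 hu).1⟩)
      (hU.to_le inf_le_left)
    intro k hka hk u hu
    refine mem_inf.2 ⟨hn k hk u (mem_inf.1 hu).1, ?_⟩
    exact mul_mem (mul_mem (mem_St.2 hka) (mem_inf.1 hu).2) (inv_mem (mem_St.2 hka))
  have hXiU : ∀ y ∈ Xi, ∀ u ∈ U, y * u * y⁻¹ ∈ U := fun y hy u hu =>
    hn y ((h.fix y (F.pi_le hy)).1 hy) u hu
  have hUle : U ≤ Xi := by
    by_contra hcon
    have h2 : IsPGroup 2 (U ⊔ Xi : Subgroup H) := by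
      rw [sup_comm]
      exact IsPGroup.to_sup_of_normal_right' hXi2 hU (le_normalizer_of hXiU)
    obtain ⟨v, hv, hvn, hvN⟩ := exists_normalizer_of_lt h2 (le_sup_right : Xi ≤ U ⊔ Xi)
      (fun h3 => hcon ((le_sup_left).trans h3))
    obtain ⟨u, hu, y, hy, rfl⟩ := exists_of_mem_sup hXiU hv
    apply hvn
    refine Xi.mul_mem (h0 (mem_inf.2 ⟨hu, ?_⟩)) hy
    apply h.norm
    have h3 := mul_mem hvN (inv_mem (le_normalizer hy))
    rwa [mul_inv_cancel_right] at h3
  by_contra hne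
  have h1 : Xi ≤ U := h.le_of_J C F (hUle.trans F.pi_le) hne fun k hk _ => hn k hk
  have h2 : U = Xi := le_antisymm hUle h1
  obtain ⟨g, hg, hga⟩ := h.move
  apply hga
  apply h.norm
  have h3 : St ρ x ≤ normalizer (Xi : Set H) := by
    refine le_normalizer_of fun k hk y hy => ?_
    rw [← h2] at hy ⊢
    exact hn k hk y hy
  exact h3 hg

/-- no `y ≠ 1` in `X` has `T(y, Ξ, Ξ) = 0`. -/
theorem eq_one_of_TT_Xi (C : Cfg ρ b q a D X w) (F : CoFacts X Xi Xf P)
    (h : Cen ρ a D X Xi x) {c : V} (hc : b a c = 1) {y : H} (hy : y ∈ X)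
    (h0 : ∀ s ∈ Xi, ∀ t ∈ Xi, TT ρ b c y s t = 0) : y = 1 := by
  have hle := F.pi_le
  let Y0 : Subgroup H := {
    carrier := {y | y ∈ X ∧ ∀ s ∈ Xi, ∀ t ∈ Xi, TT ρ b c y s t = 0}
    one_mem' := by
      refine ⟨X.one_mem, fun s _ t _ => ?_⟩
      have h1 : cm ρ (1 : H) c = 0 := by
        rw [cm_eq_zero_iff C]; exact C.ρ_one c
      unfold TT
      rw [h1, cm_zero, map_zero, LinearMap.zero_apply]
    mul_mem' := by
      rintro u v ⟨hu, hu'⟩ ⟨hv, hv'⟩
      refine ⟨X.mul_mem hu hv, fun s hs t ht => ?_⟩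
      rw [TT_mul1 C hu hv (hle hs) (hle ht), hu' s hs t ht, hv' s hs t ht, add_zero]
    inv_mem' := by
      rintro u ⟨hu, hu'⟩
      rw [C.X_inv hu]
      exact ⟨hu, hu'⟩ }
  by_contra hne
  have hyY : y ∈ Y0 := ⟨hy, h0⟩
  have hbot : Y0 ≠ ⊥ := by
    intro h1
    rw [h1, mem_bot] at hyY
    exact hne hyY
  have h1 : Xi ≤ Y0 := by
    apply h.le_of_J C F (show Y0 ≤ X from fun u hu => hu.1) hbot
    rintro k hk hka u ⟨hu, hu'⟩
    refine ⟨C.X_norm k hka u hu, fun s hs t ht => ?_⟩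
    have hki : ρ k⁻¹ x = x := C.fix_inv hk
    have hkai : ρ k⁻¹ a = a := C.fix_inv hka
    have h2 := h.conj_mem C hle hki hkai hs
    have h3 := h.conj_mem C hle hki hkai ht
    rw [inv_inv] at h2 h3
    have h4 := TT_conj C hc hka hu (hle h2) (hle h3)
    have e1 : k * (k⁻¹ * s * k) * k⁻¹ = s := by group
    have e2 : k * (k⁻¹ * t * k) * k⁻¹ = t := by group
    rw [e1, e2] at h4
    rw [h4]
    exact hu' _ h2 _ h3
  obtain ⟨u, hu, s, hs, t, ht, hT⟩ := exists_TT_ne C F.card F.irr hc F.pi_le F.pi_card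
  exact hT ((h1 hu).2 s hs t ht)

/-- `[v, Ξ] ≤ ⟨a, x⟩` and `v ∈ a^⊥` imply `v ∈ D`. -/
theorem mem_D_of_Xi (C : Cfg ρ b q a D X w) (F : CoFacts X Xi Xf P)
    (h : Cen ρ a D X Xi x) {v : V} (hv : b a v = 0)
    (hcm : ∀ s ∈ Xi, cm ρ s v = 0 ∨ cm ρ s v = a ∨ cm ρ s v = x ∨ cm ρ s v = x + a) : v ∈ D := by
  obtain ⟨c, hc⟩ := C.exists_off
  obtain ⟨y, hy, hyv⟩ := exists_sigma C hc hv
  have hle := F.pi_le
  have hy1 : y = 1 := by
    apply eq_one_of_TT_Xi C F h hc hy
    intro s hs t ht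
    rw [← b_eq_TT C hc hy hyv (hle hs) (hle ht) hc]
    have h1 : b a (cm ρ t c) = 0 := cm_perp C (hle ht) c
    have h2 : b x (cm ρ t c) = 0 :=
      (b_functional C hc (hle ht)).2 ((cm_eq_zero_iff C).2 ((h.fix t (hle ht)).1 ht))
    rcases hcm s hs with h3 | h3 | h3 | h3
    · rw [h3, map_zero, LinearMap.zero_apply]
    · rw [h3, h1]
    · rw [h3, h2]
    · rw [h3, map_add, LinearMap.add_apply, h1, h2, add_zero]
  rw [hy1] at hyv
  have h2 : cm ρ (1 : H) c = 0 := by
    rw [cm_eq_zero_iff C]; exact C.ρ_one c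
  rwa [h2, add_zero] at hyv

/-- **(9)** -/
theorem good9 (C : Cfg ρ b q a D X w) (F : CoFacts X Xi Xf P)
    (h : PtH ρ a D X Xi x) (F0 : Submodule (ZMod 2) V) (hx : x ∈ F0)
    (hti : ∀ u ∈ F0, ∀ v ∈ F0, b u v = 0)
    (hinv : ∀ g, ρ g x = x → ∀ v ∈ F0, ρ g v ∈ F0) : ∀ v ∈ F0, v = 0 ∨ v = x := by
  classical
  have hle := F.pi_le
  have hHf := C.finite_H
  have hVf := C.finite_V
  by_contra hcon
  push Not at hcon
  obtain ⟨v0, hv0, hv00, hv0x⟩ := hcon
  have hXix : ∀ y ∈ Xi, ρ y x = x := fun y hy => (h.fix y (hle hy)).1 hy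
  have hF0 : ∀ y ∈ Xi, ∀ v ∈ F0, ρ y v ∈ F0 := fun y hy => hinv y (hXix y hy)
  obtain ⟨c, hc⟩ := C.exists_off
  -- spans
  let E1 : Submodule (ZMod 2) V := {
    carrier := {v | v = 0 ∨ v = x}
    zero_mem' := Or.inl rfl
    add_mem' := by
      rintro u v (rfl | rfl) (rfl | rfl)
      · left; exact add_zero 0
      · right; exact zero_add _
      · right; exact add_zero _
      · left; exact C.add_self _
    smul_mem' := by
      rintro r v hv
      rcases zmod_two r with h1 | h1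
      · left; rw [h1, zero_smul]
      · rw [h1, one_smul]; exact hv }
  have hE1 : ∀ v, v ∈ E1 ↔ v = 0 ∨ v = x := fun v => Iff.rfl
  let E2 : Submodule (ZMod 2) V := {
    carrier := {v | v = 0 ∨ v = a ∨ v = x ∨ v = x + a}
    zero_mem' := Or.inl rfl
    add_mem' := by
      intro u v hu hv
      have key : ∀ u v : V, (u = 0 ∨ u = a ∨ u = x ∨ u = x + a) →
          (v = 0 ∨ v = a ∨ v = x ∨ v = x + a) →
          u + v = 0 ∨ u + v = a ∨ u + v = x ∨ u + v = x + a := by
        have e1 : a + (x + a) = x := by rw [add_comm x a, ← add_assoc, C.add_self, zero_add]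
        have e2 : x + (x + a) = a := by rw [← add_assoc, C.add_self, zero_add]
        rintro u v (rfl | rfl | rfl | rfl) hv
        · rw [zero_add]; exact hv
        · rcases hv with rfl | rfl | rfl | rfl
          · right; left; exact add_zero _
          · left; exact C.add_self _
          · right; right; right; exact add_comm _ _
          · right; right; left; exact e1
        · rcases hv with rfl | rfl | rfl | rfl
          · right; right; left; exact add_zero _
          · right; right; right; rfl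
          · left; exact C.add_self _
          · right; left; exact e2
        · rcases hv with rfl | rfl | rfl | rfl
          · right; right; right; exact add_zero _
          · right; right; left; exact C.add_add_self _ _
          · right; left; rw [add_comm]; exact e2
          · left; exact C.add_self _
      exact key u v hu hv
    smul_mem' := by
      rintro r v hv
      rcases zmod_two r with h1 | h1
      · left; rw [h1, zero_smul]
      · rw [h1, one_smul]; exact hv }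
  have hE2 : ∀ v, v ∈ E2 ↔ v = 0 ∨ v = a ∨ v = x ∨ v = x + a := fun v => Iff.rfl
  have hfixE2 : ∀ y ∈ Xi, ∀ v ∈ E2, ρ y v = v := by
    intro y hy v hv
    rcases (hE2 v).1 hv with rfl | rfl | rfl | rfl
    · exact map_zero _
    · exact C.X_a (hle hy)
    · exact hXix y hy
    · rw [map_add, hXix y hy, C.X_a (hle hy)]
  have hE2D : ∀ v ∈ E2, v ∈ D := by
    intro v hv
    rcases (hE2 v).1 hv with rfl | rfl | rfl | rfl
    · exact D.zero_mem
    · exact C.a_mem
    · exact h.mem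
    · exact D.add_mem h.mem C.a_mem
  have hXi1 : ∃ y ∈ Xi, y ≠ 1 := by
    by_contra hcon
    push Not at hcon
    have h1 : Xi = ⊥ := (Subgroup.eq_bot_iff_forall Xi).2 hcon
    have h2 := F.pi_card
    rw [h1, Subgroup.card_bot] at h2
    norm_num at h2
  -- `a ∈ F0`
  have haF : a ∈ F0 := by
    obtain ⟨v, hv, hvE, hcm⟩ := exists_fix_mod C (E := E1) hle
      (by
        intro y hy v hv
        rcases (hE1 v).1 hv with rfl | rfl
        · rw [map_zero]; exact E1.zero_mem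
        · rw [hXix y hy]; exact (hE1 _).2 (Or.inr rfl)) hF0 hv0
      (fun h1 => by
        rcases (hE1 _).1 h1 with h2 | h2
        · exact hv00 h2
        · exact hv0x h2)
    have hvp : b a v = 0 := by
      rcases zmod_two (b a v) with h1 | h1
      · exact h1
      · exfalso
        obtain ⟨y, hy, hy1⟩ := hXi1
        apply hy1
        apply C.X_semi y (hle hy) v h1
        have h2 := (hE1 _).1 (hcm y hy)
        rcases h2 with h2 | h2
        · rw [show ρ y v + v = 0 from h2]; exact D.zero_mem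
        · rw [show ρ y v + v = x from h2]; exact h.mem
    have hvD : v ∈ D := by
      apply mem_D_of_Xi C F h.toCen hvp
      intro s hs
      rcases (hE1 _).1 (hcm s hs) with h2 | h2
      · exact Or.inl h2
      · exact Or.inr (Or.inr (Or.inl h2))
    have hfix : ∀ y ∈ Xi, ρ y v = v := by
      intro y hy
      rcases cm_D C (hle hy) hvD with h2 | h2
      · exact (cm_eq_zero_iff C).1 h2
      · exfalso
        rcases (hE1 _).1 (hcm y hy) with h3 | h3
        · exact C.a_ne (h2.symm.trans h3)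
        · exact h.nea (h3.symm.trans h2)
    rcases h.cen v hfix with h2 | h2 | h2 | h2
    · exact absurd ((hE1 _).2 (Or.inl h2)) hvE
    · rw [← h2]; exact hv
    · exact absurd ((hE1 _).2 (Or.inr h2)) hvE
    · have h3 : a = v + x := by
        rw [h2, add_comm (x + a) x, ← add_assoc, C.add_self, zero_add]
      rw [h3]
      exact F0.add_mem hv hx
  -- a vector outside `⟨a, x⟩`
  obtain ⟨g0, hg0, hg0a⟩ := h.move
  have hg0F : ρ g0 a ∈ F0 := hinv g0 hg0 a haF
  have hg0E : ρ g0 a ∉ E2 := by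
    intro h1
    rcases (hE2 _).1 h1 with h2 | h2 | h2 | h2
    · apply C.a_ne
      have h3 := C.ρ_inv_apply g0 a
      rw [h2, map_zero] at h3
      exact h3.symm
    · exact hg0a h2
    · exact (h.nconj g0).1 h2
    · exact (h.nconj g0).2 h2
  obtain ⟨v, hv, hvE, hcm⟩ := exists_fix_mod C (E := E2) hle
    (by
      intro y hy v hv
      rw [hfixE2 y hy v hv]; exact hv) hF0 hg0F hg0E
  have hvD : v ∈ D := mem_D_of_Xi C F h.toCen (hti a haF v hv) fun s hs => (hE2 _).1 (hcm s hs)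
  -- `D ≤ F0`
  have hDF : D ≤ F0 := by
    let R : Subgroup H := {
      carrier := {y | y ∈ X ∧ ∀ d ∈ D, d ∈ F0 → ρ y d = d}
      one_mem' := ⟨X.one_mem, fun d _ _ => C.ρ_one d⟩
      mul_mem' := by
        rintro u v ⟨hu, hu'⟩ ⟨hv, hv'⟩
        refine ⟨X.mul_mem hu hv, fun d hd hdF => ?_⟩
        rw [C.ρ_mul, hv' d hd hdF, hu' d hd hdF]
      inv_mem' := by
        rintro u ⟨hu, hu'⟩
        rw [C.X_inv hu]
        exact ⟨hu, hu'⟩ }
    have hRbot : R = ⊥ := by
      by_contra hne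
      have h1 : Xi ≤ R := by
        apply h.le_of_J C F (show R ≤ X from fun u hu => hu.1) hne
        rintro k hk hka u ⟨hu, hu'⟩
        refine ⟨C.X_norm k hka u hu, fun d hd hdF => ?_⟩
        have h2 := hu' (ρ k⁻¹ d) (C.D_inv k⁻¹ (C.fix_inv hka) d hd) (hinv k⁻¹ (C.fix_inv hk) d hdF)
        rw [C.ρ_mul, C.ρ_mul, h2, C.ρ_apply_inv]
      have h2 : ∀ y ∈ Xi, ρ y v = v := fun y hy => (h1 hy).2 v hvD hv
      exact hvE ((hE2 _).2 (h.cen v h2))
    intro d hd
    by_contra hdF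
    obtain ⟨y, hy, h1, h2⟩ := exists_ann C (F := D ⊓ F0) inf_le_left
      (Submodule.mem_inf.2 ⟨C.a_mem, haF⟩) hd (fun h3 => hdF (Submodule.mem_inf.1 h3).2)
    have h3 : y ∈ R := ⟨hy, fun e he heF => h1 e (Submodule.mem_inf.2 ⟨he, heF⟩)⟩
    rw [hRbot, mem_bot] at h3
    rw [h3, C.ρ_one] at h2
    apply C.a_ne
    have h4 : d + 0 = d + a := by rw [add_zero]; exact h2
    exact (add_left_cancel h4).symm
  have hFD : ∀ v ∈ F0, v ∈ D := by
    intro v hv
    exact perp_D C fun d hd => hti d (hDF hd) v hv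
  -- the stabiliser of `D`
  let N' : Subgroup H := {
    carrier := {g | ∀ d, d ∈ D ↔ ρ g d ∈ D}
    one_mem' := fun d => by rw [C.ρ_one]
    mul_mem' := by
      intro g k hg hk d
      rw [C.ρ_mul, ← hg, ← hk]
    inv_mem' := by
      intro g hg d
      rw [hg (ρ g⁻¹ d), C.ρ_apply_inv] }
  have hmemN' : ∀ g, (∀ d ∈ D, ρ g d ∈ D) → (∀ d ∈ D, ρ g⁻¹ d ∈ D) → g ∈ N' := by
    intro g h1 h2 d
    refine ⟨h1 d, fun h3 => ?_⟩
    have h4 := h2 _ h3
    rwa [C.ρ_inv_apply] at h4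
  have hNa : ∀ g, ρ g a = a → g ∈ N' := fun g hg => hmemN' g (C.D_inv g hg)
    (C.D_inv g⁻¹ (C.fix_inv hg))
  have hNx : ∀ g, ρ g x = x → g ∈ N' := by
    have h1 : ∀ g, ρ g x = x → ∀ d ∈ D, ρ g d ∈ D := fun g hg d hd =>
      hFD _ (hinv g hg d (hDF hd))
    exact fun g hg => hmemN' g (h1 g hg) (h1 g⁻¹ (C.fix_inv hg))
  -- the orbit of `a`
  let W : Submodule (ZMod 2) V := {
    carrier := {v | v = 0 ∨ ∃ g ∈ N', ρ g a = v}
    zero_mem' := Or.inl rfl
    add_mem' := by
      rintro u v (rfl | ⟨g, hg, rfl⟩) (rfl | ⟨k, hk, rfl⟩)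
      · left; exact add_zero 0
      · right; exact ⟨k, hk, (zero_add _).symm⟩
      · right; exact ⟨g, hg, (add_zero _).symm⟩
      · by_cases hne : ρ g a = ρ k a
        · left; rw [hne]; exact C.add_self _
        · right
          -- the transvection with centre `g a` moving `k a`
          have hd : ρ (g⁻¹ * k) a ∈ D := ((N'.mul_mem (N'.inv_mem hg) hk) a).1 C.a_mem
          have hspan : ρ (g⁻¹ * k) a ∉ (Submodule.span (ZMod 2) {a}) := by
            intro h2
            rw [Submodule.mem_span_singleton] at h2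
            obtain ⟨r, hr⟩ := h2
            rcases zmod_two r with h3 | h3
            · rw [h3, zero_smul] at hr
              apply C.a_ne
              have h4 := C.ρ_inv_apply (g⁻¹ * k) a
              rw [← hr, map_zero] at h4
              exact h4.symm
            · rw [h3, one_smul, C.ρ_mul] at hr
              apply hne
              have h4 : ρ g a = ρ g (ρ g⁻¹ (ρ k a)) := by rw [← hr]
              rw [h4, C.ρ_apply_inv]
          obtain ⟨y, hy, -, h2⟩ := exists_ann C (F := Submodule.span (ZMod 2) {a})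
            (by rw [Submodule.span_le, Set.singleton_subset_iff]; exact C.a_mem)
            (Submodule.mem_span_singleton_self a) hd hspan
          refine ⟨g * y * g⁻¹ * k, N'.mul_mem (N'.mul_mem (N'.mul_mem hg (hNa y (C.X_a hy)))
            (N'.inv_mem hg)) hk, ?_⟩
          have e : g * y * g⁻¹ * k = g * (y * (g⁻¹ * k)) := by group
          rw [e, C.ρ_mul, C.ρ_mul y, h2, map_add, ← C.ρ_mul, mul_inv_cancel_left, add_comm]
    smul_mem' := by
      rintro r v hv
      rcases zmod_two r with h1 | h1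
      · left; rw [h1, zero_smul]
      · rw [h1, one_smul]; exact hv }
  have hW : ∀ v, v ∈ W ↔ v = 0 ∨ ∃ g ∈ N', ρ g a = v := fun v => Iff.rfl
  have hWD : W ≤ D := by
    intro v hv
    rcases (hW v).1 hv with rfl | ⟨g, hg, rfl⟩
    · exact D.zero_mem
    · exact (hg a).1 C.a_mem
  have haW : a ∈ W := (hW a).2 (Or.inr ⟨1, N'.one_mem, C.ρ_one a⟩)
  have hgW : ρ g0 a ∈ W := (hW _).2 (Or.inr ⟨g0, hNx g0 hg0, rfl⟩)
  -- the annihilator of `W`
  let R : Subgroup H := {
    carrier := {y | y ∈ X ∧ ∀ d ∈ W, ρ y d = d}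
    one_mem' := ⟨X.one_mem, fun d _ => C.ρ_one d⟩
    mul_mem' := by
      rintro u v ⟨hu, hu'⟩ ⟨hv, hv'⟩
      refine ⟨X.mul_mem hu hv, fun d hd => ?_⟩
      rw [C.ρ_mul, hv' d hd, hu' d hd]
    inv_mem' := by
      rintro u ⟨hu, hu'⟩
      rw [C.X_inv hu]
      exact ⟨hu, hu'⟩ }
  have hRbot : R = ⊥ := by
    by_contra hne
    have h1 : R = X := by
      apply F.irr R (fun u hu => hu.1) hne
      refine le_normalizer_of fun g hg y hy => ?_
      rw [mem_N_iff C] at hg
      refine ⟨C.X_norm g hg y hy.1, fun d hd => ?_⟩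
      have h2 : ρ g⁻¹ d ∈ W := by
        rcases (hW d).1 hd with rfl | ⟨k, hk, rfl⟩
        · rw [map_zero]; exact W.zero_mem
        · refine (hW _).2 (Or.inr ⟨g⁻¹ * k, N'.mul_mem (N'.inv_mem (hNa g hg)) hk, ?_⟩)
          rw [C.ρ_mul]
      rw [C.ρ_mul, C.ρ_mul, hy.2 _ h2, C.ρ_apply_inv]
    have h2 : ∀ y ∈ X, ρ y (ρ g0 a) = ρ g0 a := by
      intro y hy
      rw [← h1] at hy
      exact hy.2 _ hgW
    rcases fix_X C h2 with h3 | h3
    · exact hg0E ((hE2 _).2 (Or.inl h3))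
    · exact hg0a h3
  have hDW : D ≤ W := by
    intro d hd
    by_contra hdW
    obtain ⟨y, hy, h1, h2⟩ := exists_ann C hWD haW hd hdW
    have h3 : y ∈ R := ⟨hy, h1⟩
    rw [hRbot, mem_bot] at h3
    rw [h3, C.ρ_one] at h2
    apply C.a_ne
    have h4 : d + 0 = d + a := by rw [add_zero]; exact h2
    exact (add_left_cancel h4).symm
  -- counting
  have hcount : Nat.card {v : V // v ∈ D ∧ v ≠ 0} = 2 ^ 11 - 1 := by
    have h1 : Nat.card {v : V // v ∈ D ∧ v ≠ 0} = (D : Set V).ncard - 1 := by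
      have h2 : ((D : Set V) \ {0}).ncard = (D : Set V).ncard - 1 :=
        Set.ncard_sdiff_singleton_of_mem D.zero_mem
      rw [← h2, ← Nat.card_coe_set_eq]
      exact Nat.card_congr (Equiv.refl _)
    have h3 : (D : Set V).ncard = 2 ^ 11 := by
      rw [← Nat.card_coe_set_eq]
      have h4 := C.card_D
      rw [w_eq C F] at h4
      exact h4
    rw [h1, h3]
  let _ : MulAction N' V := MulAction.compHom V (ρ.comp N'.subtype)
  have hsm : ∀ (g : N') (v : V), g • v = ρ (g : H) v := fun g v => rfl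
  have horb : MulAction.orbit N' a = {v | v ∈ D ∧ v ≠ 0} := by
    ext v
    constructor
    · rintro ⟨g, rfl⟩
      refine ⟨(g.2 a).1 C.a_mem, fun h1 => C.a_ne ?_⟩
      have h4 := C.ρ_inv_apply (g : H) a
      have h5 : ρ (g : H) a = 0 := h1
      rw [h5, map_zero] at h4
      exact h4.symm
    · rintro ⟨h1, h2⟩
      rcases (hW v).1 (hDW h1) with h3 | ⟨g, hg, h3⟩
      · exact absurd h3 h2
      · exact ⟨⟨g, hg⟩, h3⟩
  have hdvd : 2 ^ 11 - 1 ∣ Nat.card H := by
    have h1 : (MulAction.stabilizer N' a).index ∣ Nat.card N' := Subgroup.index_dvd_card _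
    rw [MulAction.index_stabilizer, horb, ← Nat.card_coe_set_eq] at h1
    have h2 : Nat.card ({v : V | v ∈ D ∧ v ≠ 0} : Set V) = 2 ^ 11 - 1 := hcount
    rw [h2] at h1
    exact h1.trans (Subgroup.card_subgroup_dvd_card N')
  exact F.r89 (dvd_trans (by norm_num) hdvd)

end PtH

end Cfsg.Agent.Omega.EH3.CoTwo
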