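import Cfsg.Agent.Omega.EH3.CoTwo.Facts
import Cfsg.Agent.Omega.EH3.Basic

/-!
# EH3, row `Co₂` : the stabiliser of the point `x~` moves `a` (steps (5')-(7') of bb OMEGA 12880)

`e` is a second point of the orbit of `a` under `P` (3 points `a, e, e + a`), `g ∈ P` swaps `a` and `e`,
`D' = g D`, `F = D ∩ D'`.  If `F = ⟨a, e⟩`, the trilinear form vanishes on `Xf = C_X(e)`.
Otherwise `C_X(F) < Xf`, hence `C_X(F) ≤ Xi`, so that `x~ ∈ F ≤ D'`, and a transvection of `D'` with centre `e` fixes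
`x~` and moves `a`.
-/

set_option autoImplicit false

namespace Cfsg.Agent.Omega.EH3.CoTwo

open Subgroup Cfsg.Agent.Omega.EH3

variable {H V : Type*} [Group H] [AddCommGroup V] [Module (ZMod 2) V]
  {ρ : H →* (V ≃ₗ[ZMod 2] V)} {b : LinearMap.BilinForm (ZMod 2) V} {q : V → ZMod 2}
  {a : V} {D : Submodule (ZMod 2) V} {X Xi Xf P : Subgroup H} {w : ℕ}

/-- the orbit of `a` under `P` has three points -/
theorem ncard_orbit (C : Cfg ρ b q a D X w) (F : CoFacts X Xi Xf P) :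
    {v : V | ∃ g ∈ P, ρ g a = v}.ncard = 3 := by
  let _ : MulAction P V := MulAction.compHom V (ρ.comp P.subtype)
  have hsm : ∀ (g : P) (v : V), g • v = ρ (g : H) v := fun g v => rfl
  have h1 : {v : V | ∃ g ∈ P, ρ g a = v} = MulAction.orbit P a := by
    ext v
    constructor
    · rintro ⟨g, hg, rfl⟩
      exact ⟨⟨g, hg⟩, rfl⟩
    · rintro ⟨g, rfl⟩
      exact ⟨g, g.2, rfl⟩
  have h2 : MulAction.stabilizer P a = (P ⊓ normalizer (X : Set H)).subgroupOf P := by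
    ext g
    rw [MulAction.mem_stabilizer_iff, Subgroup.mem_subgroupOf, Subgroup.mem_inf, mem_N_iff C, hsm]
    exact ⟨fun h => ⟨g.2, h⟩, fun h => h.2⟩
  rw [h1, ← MulAction.index_stabilizer, h2]
  exact F.P_ind

/-- the second point `e` -/
theorem exists_pt_P (C : Cfg ρ b q a D X w) (F : CoFacts X Xi Xf P) :
    ∃ e ∈ D, e ≠ 0 ∧ e ≠ a ∧ (∀ x ∈ X, x ∈ Xf ↔ ρ x e = e) ∧ ∃ g : H, ρ g a = e ∧ ρ g e = a := by
  have hVf := C.finite_V
  set S : Set V := {v : V | ∃ g ∈ P, ρ g a = v} with hS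
  have hS3 : S.ncard = 3 := ncard_orbit C F
  have haS : a ∈ S := ⟨1, P.one_mem, C.ρ_one a⟩
  have hPS : ∀ g ∈ P, ∀ v ∈ S, ρ g v ∈ S := by
    rintro g hg v ⟨k, hk, rfl⟩
    exact ⟨g * k, P.mul_mem hg hk, C.ρ_mul g k a⟩
  have h2 : (S \ {a}).ncard = 2 := by
    rw [Set.ncard_sdiff_singleton_of_mem haS, hS3]
  obtain ⟨e, e', hne, hee⟩ := Set.ncard_eq_two.1 h2
  have heS : e ∈ S \ {a} := by rw [hee]; exact Set.mem_insert _ _
  have heS' : e' ∈ S \ {a} := by rw [hee]; exact Set.mem_insert_of_mem _ rfl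
  have hea : e ≠ a := heS.2
  have hea' : e' ≠ a := heS'.2
  have hS' : ∀ v ∈ S, v = a ∨ v = e ∨ v = e' := by
    intro v hv
    by_cases h : v = a
    · exact Or.inl h
    · right
      have : v ∈ S \ {a} := ⟨hv, h⟩
      rw [hee] at this
      exact this
  have hS0 : ∀ v ∈ S, v ≠ 0 := by
    rintro v ⟨g, hg, rfl⟩ h
    apply C.a_ne
    have := C.ρ_inv_apply g a
    rw [h, map_zero] at this
    exact this.symm
  -- action of `X`
  have hXS : ∀ x ∈ X, ρ x e = e ∨ ρ x e = e' := by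
    intro x hx
    rcases hS' _ (hPS x (F.X_P hx) e heS.1) with h | h | h
    · exfalso
      apply hea
      apply C.ρ_inj x
      rw [h, C.X_a hx]
    · exact Or.inl h
    · exact Or.inr h
  have hXS' : ∀ x ∈ X, ρ x e' = e ∨ ρ x e' = e' := by
    intro x hx
    rcases hS' _ (hPS x (F.X_P hx) e' heS'.1) with h | h | h
    · exfalso
      apply hea'
      apply C.ρ_inj x
      rw [h, C.X_a hx]
    · exact Or.inl h
    · exact Or.inr h
  have hfix : ∀ x ∈ X, ρ x e = e → ρ x e' = e' := by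
    intro x hx h
    rcases hXS' x hx with h1 | h1
    · exact absurd (C.ρ_inj x (h1.trans h.symm)).symm hne
    · exact h1
  have hmove : ∀ x ∈ X, ρ x e = e' → ρ x e' = e := by
    intro x hx h
    rcases hXS' x hx with h1 | h1
    · exact h1
    · exact absurd (C.ρ_inj x (h.trans h1.symm)) hne
  obtain ⟨x0, hx0, hx0e⟩ : ∃ x ∈ X, ρ x e = e' := by
    by_contra hcon
    push Not at hcon
    have h : ∀ x ∈ X, ρ x e = e := fun x hx => (hXS x hx).resolve_right (hcon x hx)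
    rcases fix_X C h with h1 | h1
    · exact hS0 e heS.1 h1
    · exact hea h1
  have hsum : ∀ x ∈ X, ρ x (a + e + e') = a + e + e' := by
    intro x hx
    rw [map_add, map_add, C.X_a hx]
    rcases hXS x hx with h | h
    · rw [h, hfix x hx h]
    · rw [h, hmove x hx h]
      abel
  have he' : e' = e + a := by
    rcases fix_X C hsum with h | h
    · have := C.add_eq_zero.1 h
      rw [← this, add_comm]
    · exfalso
      apply hne
      apply C.add_eq_zero.1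
      rw [add_assoc] at h
      exact add_eq_left.1 h
  subst he'
  have heD : e ∈ D := by
    apply mem_D_of C
    intro x hx
    rcases hXS x hx with h | h
    · left; exact (cm_eq_zero_iff C).2 h
    · right
      unfold cm
      rw [h, add_comm e a, add_assoc, C.add_self, add_zero]
  refine ⟨e, heD, hS0 e heS.1, hea, ?_, ?_⟩
  · intro x hx
    rw [F.Xf_def]
    constructor
    · rintro ⟨_, h⟩
      obtain ⟨g, hg, hge⟩ := heS.1
      have h1 := h g⁻¹ (P.inv_mem hg)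
      rw [mem_N_iff C, inv_inv, C.ρ_mul, C.ρ_mul, hge] at h1
      have h2 := congrArg (ρ g) h1
      rw [C.ρ_apply_inv, hge] at h2
      exact h2
    · intro h
      refine ⟨hx, fun g hg => ?_⟩
      rw [mem_N_iff C]
      have h1 : ρ x (ρ g⁻¹ a) = ρ g⁻¹ a := by
        have h2 : ρ g⁻¹ a ∈ S := ⟨g⁻¹, P.inv_mem hg, rfl⟩
        rcases hS' _ h2 with h3 | h3 | h3
        · rw [h3, C.X_a hx]
        · rw [h3, h]
        · rw [h3, hfix x hx h]
      rw [C.ρ_mul, C.ρ_mul, h1, C.ρ_apply_inv]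
  · obtain ⟨g, hg, hge⟩ := heS.1
    rcases hS' _ (hPS g hg e heS.1) with h | h | h
    · exact ⟨g, hge, h⟩
    · exact absurd (C.ρ_inj g (h.trans hge.symm)) hea
    · -- `g e = e + a`, so that `g (e + a) = a`
      have h1 : ρ g (e + a) = a := by
        rw [map_add, h, hge, add_comm e a, add_assoc, C.add_self, add_zero]
      refine ⟨g * x0, ?_, ?_⟩
      · rw [C.ρ_mul, C.X_a hx0, hge]
      · rw [C.ρ_mul, hx0e, h1]

/-! ### the second frame -/

/-- the data of the second frame -/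
structure Two (ρ : H →* (V ≃ₗ[ZMod 2] V)) (a : V) (D : Submodule (ZMod 2) V) (X Xf : Subgroup H)
    (e : V) (g : H) : Prop where
  eD : e ∈ D
  e0 : e ≠ 0
  ea : e ≠ a
  f : ∀ x ∈ X, x ∈ Xf ↔ ρ x e = e
  ga : ρ g a = e
  ge : ρ g e = a

/-- `D' = g D` -/
def DD (ρ : H →* (V ≃ₗ[ZMod 2] V)) (D : Submodule (ZMod 2) V) (g : H) : Submodule (ZMod 2) V :=
  D.comap ((ρ g⁻¹ : V ≃ₗ[ZMod 2] V) : V →ₗ[ZMod 2] V)

theorem mem_DD {g : H} {v : V} : v ∈ DD ρ D g ↔ ρ g⁻¹ v ∈ D := Iff.rfl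

section

variable {e : V} {g : H}

theorem ge_inv (C : Cfg ρ b q a D X w) (E : Two ρ a D X Xf e g) : ρ g⁻¹ e = a := by
  rw [← E.ga, C.ρ_inv_apply]

theorem ga_inv (C : Cfg ρ b q a D X w) (E : Two ρ a D X Xf e g) : ρ g⁻¹ a = e := by
  nth_rewrite 1 [← E.ge]
  rw [C.ρ_inv_apply]

theorem e_DD (C : Cfg ρ b q a D X w) (E : Two ρ a D X Xf e g) : e ∈ DD ρ D g := by
  rw [mem_DD, ge_inv C E]; exact C.a_mem

theorem a_DD (C : Cfg ρ b q a D X w) (E : Two ρ a D X Xf e g) : a ∈ DD ρ D g := by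
  rw [mem_DD, ga_inv C E]; exact E.eD

/-- `D'` is invariant under the stabiliser of `e` -/
theorem DD_inv (C : Cfg ρ b q a D X w) (E : Two ρ a D X Xf e g) {h : H} (hh : ρ h e = e) {v : V}
    (hv : v ∈ DD ρ D g) : ρ h v ∈ DD ρ D g := by
  rw [mem_DD] at hv ⊢
  have h1 : ρ g⁻¹ (ρ h v) = ρ (g⁻¹ * h * g) (ρ g⁻¹ v) := by
    rw [C.ρ_mul, C.ρ_mul, C.ρ_apply_inv]
  rw [h1]
  apply C.D_inv _ _ _ hv
  rw [C.ρ_mul, C.ρ_mul, E.ga, hh, ge_inv C E]

theorem DD_perp (C : Cfg ρ b q a D X w) (E : Two ρ a D X Xf e g) {v : V} (hv : v ∈ DD ρ D g) :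
    b a v = 0 := by
  have h := C.b_D (ga_inv C E ▸ E.eD : ρ g⁻¹ a ∈ D) (mem_DD.1 hv)
  rwa [C.b_inv] at h

/-- `F = D ∩ D'` is invariant under `X` -/
theorem F_X (C : Cfg ρ b q a D X w) (E : Two ρ a D X Xf e g) {x : H} (hx : x ∈ X) {v : V}
    (hv : v ∈ D ⊓ DD ρ D g) : ρ x v ∈ D ⊓ DD ρ D g := by
  rcases C.X_D x hx v hv.1 with h | h
  · rw [h]; exact hv
  · rw [h]
    exact Submodule.add_mem _ hv ⟨C.a_mem, a_DD C E⟩

/-- an element of `X` moving `e` -/
theorem exists_x0 (C : Cfg ρ b q a D X w) (E : Two ρ a D X Xf e g) : ∃ x ∈ X, ρ x e = e + a := by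
  by_contra hcon
  push Not at hcon
  have h : ∀ x ∈ X, ρ x e = e := fun x hx => (C.X_D x hx e E.eD).resolve_right (hcon x hx)
  rcases fix_X C h with h1 | h1
  · exact E.e0 h1
  · exact E.ea h1

/-- an element of `N_f` times an element of `X` fixes `e` -/
theorem exists_fix (C : Cfg ρ b q a D X w) (E : Two ρ a D X Xf e g) {n : H}
    (hn : n ∈ normalizer (X : Set H) ⊓ normalizer (Xf : Set H)) : ∃ x ∈ X, ρ (x * n) e = e := by
  have hna : ρ n a = a := (mem_N_iff C).1 hn.1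
  have hneD : ρ n e ∈ D := C.D_inv n hna e E.eD
  have key : ∀ x ∈ X, ρ x (ρ n e + e) = ρ n e + e := by
    intro x hx
    have hx' : n⁻¹ * x * n ∈ X := by
      have h3 := (mem_normalizer_iff.1 (inv_mem hn.1) x).1 hx
      rwa [inv_inv] at h3
    have h1 : n⁻¹ * x * n ∈ Xf ↔ x ∈ Xf := by
      have h3 := mem_normalizer_iff.1 (inv_mem hn.2) x
      rw [inv_inv] at h3
      exact h3.symm
    have h2 : ρ (n⁻¹ * x * n) e = e ↔ ρ x (ρ n e) = ρ n e := by
      rw [C.ρ_mul, C.ρ_mul]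
      constructor
      · intro h
        have := congrArg (ρ n) h
        rwa [C.ρ_apply_inv] at this
      · intro h
        rw [h, C.ρ_inv_apply]
    rw [E.f _ hx', h2, E.f x hx] at h1
    rw [map_add]
    rcases C.X_D x hx _ hneD with h3 | h3
    · rw [h3, h1.1 h3]
    · rcases C.X_D x hx _ E.eD with h4 | h4
      · rw [h1.2 h4, h4]
      · rw [h3, h4]
        have : ρ n e + a + (e + a) = ρ n e + e + (a + a) := by abel
        rw [this, C.add_self, add_zero]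
  rcases fix_X C key with h | h
  · exact ⟨1, X.one_mem, by rw [one_mul]; exact C.add_eq_zero.1 h⟩
  · obtain ⟨x, hx, hxe⟩ := exists_x0 C E
    refine ⟨x, hx, ?_⟩
    have h1 : ρ n e = e + a := by
      have := C.add_add_self (ρ n e) e
      rw [h] at this
      rw [← this, add_comm]
    rw [C.ρ_mul, h1, map_add, hxe, C.X_a hx, add_assoc, C.add_self, add_zero]

/-- `F` is invariant under `N_f` -/
theorem F_N (C : Cfg ρ b q a D X w) (E : Two ρ a D X Xf e g) {n : H}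
    (hn : n ∈ normalizer (X : Set H) ⊓ normalizer (Xf : Set H)) {v : V}
    (hv : v ∈ D ⊓ DD ρ D g) : ρ n v ∈ D ⊓ DD ρ D g := by
  obtain ⟨x, hx, hxe⟩ := exists_fix C E hn
  have hna : ρ n a = a := (mem_N_iff C).1 hn.1
  have h1 : ρ (x * n) v ∈ D ⊓ DD ρ D g :=
    ⟨C.D_inv _ (by rw [C.ρ_mul, hna, C.X_a hx]) v hv.1, DD_inv C E hxe hv.2⟩
  have h2 := F_X C E (X.inv_mem hx) h1
  rwa [C.ρ_mul, C.ρ_inv_apply] at h2

/-! ### `F` is larger than `⟨a, e⟩` -/

/-- the homomorphism `D' → X` -/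
theorem exists_hom (C : Cfg ρ b q a D X w) (E : Two ρ a D X Xf e g) {c : V} (hc : b a c = 1) :
    ∃ f : Multiplicative (DD ρ D g) →* X, ∀ (v : DD ρ D g) (y : X),
      f (Multiplicative.ofAdd v) = y ↔ C.Bel c (y : H) (v : V) := by
  have h : ∀ v : DD ρ D g, ∃ y : X, C.Bel c (y : H) (v : V) := by
    intro v
    obtain ⟨y, hy⟩ := C.exists_bel hc (DD_perp C E v.2)
    exact ⟨⟨y, hy.1⟩, hy⟩
  choose f hf using h
  have huniq : ∀ (v : DD ρ D g) (y : X), C.Bel c (y : H) (v : V) → f v = y := by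
    intro v y hy
    apply Subtype.ext
    exact (hf v).unique hc hy (by rw [C.add_self]; exact D.zero_mem)
  refine ⟨MonoidHom.mk' (fun v => f (Multiplicative.toAdd v)) ?_, ?_⟩
  · intro u v
    apply huniq
    rw [toAdd_mul, Submodule.coe_add, Subgroup.coe_mul]
    exact (hf _).mul (hf _)
  · intro v y
    constructor
    · intro h
      have h1 : f v = y := h
      rw [← h1]
      exact hf v
    · intro h
      exact huniq v y h

theorem card_DD (C : Cfg ρ b q a D X w) : Nat.card (DD ρ D g) = 2 ^ w := by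
  rw [← C.card_D]
  apply Nat.card_congr
  refine ⟨fun v => ⟨ρ g⁻¹ v, v.2⟩, fun v => ⟨ρ g v, ?_⟩, ?_, ?_⟩
  · rw [mem_DD, C.ρ_inv_apply]; exact v.2
  · intro v; apply Subtype.ext; exact C.ρ_apply_inv g v
  · intro v; apply Subtype.ext; exact C.ρ_inv_apply g v

theorem F_big (C : Cfg ρ b q a D X w) (F : CoFacts X Xi Xf P) (E : Two ρ a D X Xf e g) {c : V}
    (hc : b a c = 1) (hT : ∃ x ∈ Xf, ∃ y ∈ Xf, ∃ t ∈ Xf, TT ρ b c x y t ≠ 0) :
    ∃ v ∈ D ⊓ DD ρ D g, v ≠ 0 ∧ v ≠ a ∧ v ≠ e ∧ v ≠ e + a := by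
  classical
  have hVf := C.finite_V
  have hHf := C.finite_H
  by_contra hcon
  push Not at hcon
  have hU : ∀ v ∈ D ⊓ DD ρ D g, v = 0 ∨ v = a ∨ v = e ∨ v = e + a := by
    intro v hv
    by_contra h
    push Not at h
    exact h.2.2.2 (hcon v hv h.1 h.2.1 h.2.2.1)
  have hw : w = 11 := by
    have h1 := C.card_X
    rw [F.card] at h1
    have h2 : 10 = w - 1 := Nat.pow_right_injective le_rfl h1
    omega
  obtain ⟨f, hf⟩ := exists_hom C E hc
  -- the kernel
  have hkm : ∀ v : DD ρ D g, Multiplicative.ofAdd v ∈ f.ker ↔ (v : V) ∈ D := by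
    intro v
    rw [MonoidHom.mem_ker, hf v 1]
    constructor
    · intro h
      have h1 := h.2
      rwa [Subgroup.coe_one, C.ρ_one, C.add_self, zero_add] at h1
    · intro h
      refine ⟨X.one_mem, ?_⟩
      rw [Subgroup.coe_one, C.ρ_one, C.add_self, zero_add]
      exact h
  have hmemU : ∀ v : V, v ∈ ({0, a, e, e + a} : Set V) → v ∈ D ∧ v ∈ DD ρ D g := by
    intro v hv
    have ha : a ∈ DD ρ D g := a_DD C E
    have he : e ∈ DD ρ D g := e_DD C E
    rcases hv with rfl | rfl | rfl | rfl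
    · exact ⟨D.zero_mem, Submodule.zero_mem _⟩
    · exact ⟨C.a_mem, ha⟩
    · exact ⟨E.eD, he⟩
    · exact ⟨D.add_mem E.eD C.a_mem, Submodule.add_mem _ he ha⟩
  have hker : Nat.card f.ker = 4 := by
    have h1 : Nat.card f.ker = Nat.card ({0, a, e, e + a} : Set V) := by
      apply Nat.card_congr
      refine ⟨fun v => ⟨((Multiplicative.toAdd (v : Multiplicative (DD ρ D g)) : DD ρ D g) : V), ?_⟩,
        fun v => ⟨Multiplicative.ofAdd ⟨v, (hmemU v v.2).2⟩, (hkm _).2 (hmemU v v.2).1⟩,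
        fun v => rfl, fun v => rfl⟩
      exact hU _ ⟨(hkm _).1 v.2, (Multiplicative.toAdd (v : Multiplicative (DD ρ D g))).2⟩
    rw [h1, Nat.card_coe_set_eq, Set.ncard_insert_of_notMem, Set.ncard_insert_of_notMem,
      Set.ncard_insert_of_notMem, Set.ncard_singleton]
    · intro h
      exact C.a_ne (left_eq_add.1 h)
    · rintro (h | h)
      · exact E.ea h.symm
      · exact E.e0 (right_eq_add.1 h)
    · rintro (h | h | h)
      · exact C.a_ne h.symm
      · exact E.e0 h.symm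
      · exact E.ea (C.add_eq_zero.1 (Eq.symm h))
  have hrange : Nat.card f.range = 2 ^ 9 := by
    have h1 := f.ker.card_mul_index
    rw [Subgroup.index_ker, hker] at h1
    have h2 : Nat.card (Multiplicative (DD ρ D g)) = 2 ^ 11 := by
      rw [Nat.card_congr Multiplicative.toAdd, card_DD C, hw]
    rw [h2] at h1
    omega
  set Y : Subgroup H := f.range.map X.subtype with hY
  have hYmem : ∀ y : H, y ∈ Y ↔ ∃ v ∈ DD ρ D g, C.Bel c y v := by
    intro y
    rw [hY, Subgroup.mem_map]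
    constructor
    · rintro ⟨y', ⟨v, hv⟩, rfl⟩
      exact ⟨_, (Multiplicative.toAdd v).2, (hf (Multiplicative.toAdd v) y').1 hv⟩
    · rintro ⟨v, hv, h⟩
      exact ⟨⟨y, h.1⟩, ⟨Multiplicative.ofAdd ⟨v, hv⟩, (hf ⟨v, hv⟩ ⟨y, h.1⟩).2 h⟩, rfl⟩
  have hYX : Y ≤ X := by
    intro y hy
    obtain ⟨v, _, h⟩ := (hYmem y).1 hy
    exact h.1
  have hYcard : Nat.card Y = 2 ^ 9 := by
    rw [hY, Subgroup.card_map_of_injective X.subtype_injective, hrange]
  have hYn : ∀ n ∈ normalizer (X : Set H) ⊓ normalizer (Xf : Set H), ∀ y ∈ Y, n * y * n⁻¹ ∈ Y := by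
    intro n hn y hy
    obtain ⟨v, hv, h⟩ := (hYmem y).1 hy
    obtain ⟨x, hx, hxe⟩ := exists_fix C E hn
    have hna : ρ n a = a := (mem_N_iff C).1 hn.1
    have hxna : ρ (x * n) a = a := by rw [C.ρ_mul, hna, C.X_a hx]
    have hnyX : n * y * n⁻¹ ∈ X := C.X_norm n hna y h.1
    have e1 : x * n * y * (x * n)⁻¹ = n * y * n⁻¹ := by
      have e2 : x * n * y * (x * n)⁻¹ = x * (n * y * n⁻¹) * x⁻¹ := by group
      rw [e2, C.X_comm hx hnyX, mul_inv_cancel_right]
    rw [hYmem]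
    refine ⟨ρ (x * n) v, DD_inv C E hxe hv, ?_⟩
    apply Cfg.Bel.indep (c := ρ (x * n) c) _ hc
    · refine ⟨hnyX, ?_⟩
      rw [← e1, C.ρ_mul, C.ρ_mul, C.ρ_inv_apply, ← map_add, ← map_add]
      exact C.D_inv _ hxna _ h.2
    · rw [C.b_a_ρ hxna, hc]
  have hYf : Y = Xf := by
    apply F.f_uniq Y hYX hYcard
    intro n hn
    rw [mem_normalizer_iff]
    intro y
    refine ⟨fun hy => hYn n hn y hy, fun hy => ?_⟩
    have := hYn n⁻¹ (inv_mem hn) _ hy
    have e1 : n⁻¹ * (n * y * n⁻¹) * n⁻¹⁻¹ = y := by group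
    rwa [e1] at this
  obtain ⟨y, hy, x, hx, t, ht, hyxt⟩ := hT
  apply hyxt
  have hXfX : Xf ≤ X := fun x hx => ((F.Xf_def x).1 hx).1
  obtain ⟨v, hv, h⟩ := (hYmem y).1 (hYf ▸ hy)
  have h1 : v + cm ρ y c ∈ D := by
    unfold cm
    rw [add_comm]; exact h.2
  rw [← b_eq_TT C hc h.1 h1 (hXfX hx) (hXfX ht) hc, ← b_cm C (hXfX ht)]
  have h2 : cm ρ x v ∈ D ⊓ DD ρ D g := by
    refine ⟨C.X_perp x (hXfX hx) v (DD_perp C E hv), ?_⟩
    unfold cm
    exact Submodule.add_mem _ (DD_inv C E ((E.f x (hXfX hx)).1 hx) hv) hv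
  have hte : ρ t e = e := (E.f t (hXfX ht)).1 ht
  have hta : ρ t a = a := C.X_a (hXfX ht)
  have h3 : cm ρ t (cm ρ x v) = 0 := by
    rw [cm_eq_zero_iff C]
    rcases hU _ h2 with h4 | h4 | h4 | h4
    · rw [h4, map_zero]
    · rw [h4, hta]
    · rw [h4, hte]
    · rw [h4, map_add, hte, hta]
  rw [h3, map_zero, LinearMap.zero_apply]

end

/-- **steps (5')-(7')**: the stabiliser of `x~` moves `a` -/
theorem move (C : Cfg ρ b q a D X w) (F : CoFacts X Xi Xf P) {c : V} (hc : b a c = 1)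
    (hT : ∃ x ∈ Xf, ∃ y ∈ Xf, ∃ t ∈ Xf, TT ρ b c x y t ≠ 0) {xt : V} (hxD : xt ∈ D) (hx0 : xt ≠ 0)
    (hxa : xt ≠ a) (hXi : ∀ x ∈ X, x ∈ Xi ↔ ρ x xt = xt) : ∃ s : H, ρ s xt = xt ∧ ρ s a ≠ a := by
  obtain ⟨e, heD, he0, hea, hf, g, hga, hge⟩ := exists_pt_P C F
  have E : Two ρ a D X Xf e g := ⟨heD, he0, hea, hf, hga, hge⟩
  have hXfX : Xf ≤ X := fun x hx => ((F.Xf_def x).1 hx).1
  obtain ⟨v, hv, hv0, hva, hve, hvea⟩ := F_big C F E hc hT
  -- the annihilator of `F`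
  set R : Subgroup H := {
    carrier := {x | x ∈ X ∧ ∀ u ∈ D ⊓ DD ρ D g, ρ x u = u}
    one_mem' := ⟨X.one_mem, fun u _ => C.ρ_one u⟩
    mul_mem' := fun {x y} hx hy => ⟨X.mul_mem hx.1 hy.1, fun u hu => by
      rw [C.ρ_mul, hy.2 u hu, hx.2 u hu]⟩
    inv_mem' := fun {x} hx => ⟨X.inv_mem hx.1, fun u hu => C.fix_inv (hx.2 u hu)⟩ } with hR
  have hRmem : ∀ x, x ∈ R ↔ x ∈ X ∧ ∀ u ∈ D ⊓ DD ρ D g, ρ x u = u := fun x => Iff.rfl
  have heF : e ∈ D ⊓ DD ρ D g := ⟨E.eD, e_DD C E⟩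
  have haF : a ∈ D ⊓ DD ρ D g := ⟨C.a_mem, a_DD C E⟩
  have hRf : R ≤ Xf := fun x hx => (E.f x hx.1).2 (hx.2 e heF)
  have hne : R ≠ Xf := by
    intro h
    have hspan : v ∉ Submodule.span (ZMod 2) {a, e} := by
      intro h1
      rw [Submodule.mem_span_pair] at h1
      obtain ⟨r, s, h2⟩ := h1
      rcases zmod_two r with rfl | rfl <;> rcases zmod_two s with rfl | rfl <;>
        simp only [zero_smul, one_smul, add_zero, zero_add] at h2
      · exact hv0 h2.symm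
      · exact hve h2.symm
      · exact hva h2.symm
      · exact hvea (by rw [← h2, add_comm])
    have hle : Submodule.span (ZMod 2) {a, e} ≤ D := by
      rw [Submodule.span_le]
      rintro u (rfl | rfl)
      · exact C.a_mem
      · exact heD
    obtain ⟨x, hx, hx1, hx2⟩ := exists_ann C hle
      (Submodule.subset_span (Set.mem_insert _ _)) hv.1 hspan
    have h3 : x ∈ Xf := (E.f x hx).2 (hx1 e (Submodule.subset_span (Set.mem_insert_of_mem _ rfl)))
    rw [← h] at h3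
    have h4 := h3.2 v hv
    rw [hx2] at h4
    exact C.a_ne (add_eq_left.1 h4)
  have hRn : ∀ n ∈ normalizer (X : Set H) ⊓ normalizer (Xf : Set H), ∀ x ∈ R, n * x * n⁻¹ ∈ R := by
    intro n hn x hx
    refine ⟨C.X_norm n ((mem_N_iff C).1 hn.1) x hx.1, fun u hu => ?_⟩
    rw [C.ρ_mul, C.ρ_mul, hx.2 _ (F_N C E (inv_mem hn) hu), C.ρ_apply_inv]
  have hRi : R ≤ Xi := by
    apply F.f_max R hRf hne
    intro n hn
    rw [mem_normalizer_iff]
    intro y
    refine ⟨fun hy => hRn n hn y hy, fun hy => ?_⟩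
    have := hRn n⁻¹ (inv_mem hn) _ hy
    have e1 : n⁻¹ * (n * y * n⁻¹) * n⁻¹⁻¹ = y := by group
    rwa [e1] at this
  have hxF : xt ∈ D ⊓ DD ρ D g := by
    by_contra hcon
    obtain ⟨x, hx, hx1, hx2⟩ := exists_ann C inf_le_left haF hxD hcon
    have h1 : x ∈ Xi := hRi ⟨hx, hx1⟩
    rw [hXi x hx, hx2] at h1
    exact C.a_ne (add_eq_left.1 h1)
  have hxe : xt ≠ e := by
    rintro rfl
    apply F.f_ne
    ext x
    constructor
    · intro h
      exact (E.f x (F.pi_le h)).2 ((hXi x (F.pi_le h)).1 h)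
    · intro h
      exact (hXi x (hXfX h)).2 ((E.f x (hXfX h)).1 h)
  have hxea : xt ≠ e + a := by
    rintro rfl
    apply F.f_ne
    ext x
    constructor
    · intro h
      have h1 := (hXi x (F.pi_le h)).1 h
      rw [map_add, C.X_a (F.pi_le h)] at h1
      exact (E.f x (F.pi_le h)).2 (add_right_cancel h1)
    · intro h
      apply (hXi x (hXfX h)).2
      rw [map_add, C.X_a (hXfX h), (E.f x (hXfX h)).1 h]
  -- the transvection of `D'` with centre `e`
  have hspan : a ∉ Submodule.span (ZMod 2) {e, xt} := by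
    intro h1
    rw [Submodule.mem_span_pair] at h1
    obtain ⟨r, s, h2⟩ := h1
    rcases zmod_two r with rfl | rfl <;> rcases zmod_two s with rfl | rfl <;>
      simp only [zero_smul, one_smul, add_zero, zero_add] at h2
    · exact C.a_ne h2.symm
    · exact hxa h2
    · exact hea h2
    · apply hxea
      have := C.add_add_self xt e
      rw [← this, add_comm xt e, h2, add_comm]
  obtain ⟨φ, hφ1, hφ2⟩ := Submodule.exists_dual_map_eq_bot_of_notMem hspan inferInstance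
  have hφ : ∀ u ∈ Submodule.span (ZMod 2) {e, xt}, φ u = 0 := by
    intro u hu
    have : φ u ∈ (Submodule.span (ZMod 2) {e, xt}).map φ := Submodule.mem_map_of_mem hu
    rw [hφ2] at this
    exact (Submodule.mem_bot _).1 this
  have hφe : φ e = 0 := hφ e (Submodule.subset_span (Set.mem_insert _ _))
  have hφx : φ xt = 0 := hφ xt (Submodule.subset_span (Set.mem_insert_of_mem _ rfl))
  obtain ⟨x, hx, hxd⟩ := C.X_all (φ ∘ₗ ((ρ g : V ≃ₗ[ZMod 2] V) : V →ₗ[ZMod 2] V)) (by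
    rw [LinearMap.comp_apply]
    change φ (ρ g a) = 0
    rw [hga, hφe])
  have key : ∀ u ∈ DD ρ D g, ρ (g * x * g⁻¹) u = u + φ u • e := by
    intro u hu
    rw [C.ρ_mul, C.ρ_mul, hxd _ (mem_DD.1 hu), map_add, C.ρ_apply_inv, map_smul, hga]
    congr 2
    rw [LinearMap.comp_apply]
    change φ (ρ g (ρ g⁻¹ u)) = φ u
    rw [C.ρ_apply_inv]
  refine ⟨g * x * g⁻¹, ?_, ?_⟩
  · rw [key xt hxF.2, hφx, zero_smul, add_zero]
  · rw [key a haF.2, zmod_two_ne hφ1, one_smul]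
    intro h
    exact he0 (add_eq_left.1 h)

end Cfsg.Agent.Omega.EH3.CoTwo
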