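import Cfsg.Agent.Omega.EH3.CoTwo.Facts

/-!
# EH3, row `Co₂` : `CoFacts` along an isomorphism (helper665)
-/

set_option autoImplicit false

namespace Cfsg.Agent.Omega.EH3.CoTwo

open Subgroup

section

variable {H K : Type*} [Group H] [Group K] (e : H ≃* K)

theorem map_centralizer (S : Subgroup H) :
    (centralizer (S : Set H)).map e.toMonoidHom =
      centralizer ((S.map e.toMonoidHom : Subgroup K) : Set K) := by
  ext k
  simp only [mem_map, mem_centralizer_iff]
  constructor
  · rintro ⟨g, hg, rfl⟩ _ ⟨s, hs, rfl⟩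
    show e s * e g = e g * e s
    rw [← map_mul, ← map_mul, hg s hs]
  · intro hk
    refine ⟨e.symm k, fun s hs => ?_, e.apply_symm_apply k⟩
    have h1 : e s * k = k * e s := hk (e s) ⟨s, hs, rfl⟩
    apply e.injective
    rw [map_mul, map_mul, e.apply_symm_apply, h1]

theorem exists_map (Y : Subgroup K) : ∃ Z : Subgroup H, Z.map e.toMonoidHom = Y :=
  ⟨Y.comap e.toMonoidHom, map_comap_eq_self_of_surjective e.surjective Y⟩

theorem card_map' (Y : Subgroup H) : Nat.card (Y.map e.toMonoidHom) = Nat.card Y :=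
  Subgroup.card_map_of_injective e.injective

/-- **transport** -/
theorem CoFacts.map {X Xi Xf P : Subgroup H} (F : CoFacts X Xi Xf P) :
    CoFacts (X.map e.toMonoidHom) (Xi.map e.toMonoidHom) (Xf.map e.toMonoidHom)
      (P.map e.toMonoidHom) := by
  have hle : ∀ A B : Subgroup H, A.map e.toMonoidHom ≤ B.map e.toMonoidHom ↔ A ≤ B :=
    fun A B => map_le_map_iff_of_injective e.injective
  have heq : ∀ A B : Subgroup H, A.map e.toMonoidHom = B.map e.toMonoidHom ↔ A = B :=
    fun A B => (Subgroup.map_injective e.injective).eq_iff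
  have hinf : ∀ A B : Subgroup H, A.map e.toMonoidHom ⊓ B.map e.toMonoidHom =
      (A ⊓ B).map e.toMonoidHom := fun A B => (map_inf A B _ e.injective).symm
  have hnor : ∀ A : Subgroup H, normalizer ((A.map e.toMonoidHom : Subgroup K) : Set K) =
      (normalizer (A : Set H)).map e.toMonoidHom := fun A => (map_equiv_normalizer_eq A e).symm
  have hbot : (⊥ : Subgroup K) = (⊥ : Subgroup H).map e.toMonoidHom := (Subgroup.map_bot _).symm
  have hrel : ∀ A B : Subgroup H, (A.map e.toMonoidHom).relIndex (B.map e.toMonoidHom) =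
      A.relIndex B := fun A B => relIndex_map_map_of_injective A B e.injective
  have hmem : ∀ (A : Subgroup H) (g : H), e g ∈ A.map e.toMonoidHom ↔ g ∈ A :=
    fun A g => mem_map_iff_mem e.injective
  refine
    { card := by rw [card_map']; exact F.card
      r89 := by rw [← Nat.card_congr e.toEquiv]; exact F.r89
      irr := ?_
      pi_le := (hle _ _).2 F.pi_le
      pi_card := by rw [card_map']; exact F.pi_card
      pi_ind := by rw [hnor, hnor, hinf, hrel]; exact F.pi_ind
      pi_two := ?_
      pi_min := ?_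
      pi_cen := by
        rw [hnor, ← map_centralizer, hinf, hle]; exact F.pi_cen
      X_P := (hle _ _).2 F.X_P
      P_ind := by rw [hnor, hinf, hrel]; exact F.P_ind
      Xf_def := ?_
      f_uniq := ?_
      f_max := ?_
      f_ne := fun h => F.f_ne ((heq _ _).1 h) }
  · intro Y hY hne hn
    obtain ⟨Y, rfl⟩ := exists_map e Y
    rw [hnor, hnor, hle] at hn
    rw [hle] at hY
    rw [F.irr Y hY (fun h => hne (by rw [h, Subgroup.map_bot])) hn]
  · intro U hU hU2 hn
    obtain ⟨U, rfl⟩ := exists_map e U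
    rw [hnor, hnor, hinf, hle] at hU
    rw [hnor, hnor, hinf, hnor, hle] at hn
    rw [hle]
    refine F.pi_two U hU ?_ hn
    exact hU2.of_equiv (U.equivMapOfInjective _ e.injective).symm
  · intro Y hY hne hn
    obtain ⟨Y, rfl⟩ := exists_map e Y
    rw [hnor, hnor, hinf, hnor, hle] at hn
    rw [hle] at hY ⊢
    exact F.pi_min Y hY (fun h => hne (by rw [h, Subgroup.map_bot])) hn
  · intro x
    obtain ⟨y, rfl⟩ := e.surjective x
    rw [hmem, hmem, F.Xf_def y, hnor]
    constructor
    · rintro ⟨h1, h2⟩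
      refine ⟨h1, ?_⟩
      rintro _ ⟨g, hg, rfl⟩
      have h3 : e (g * y * g⁻¹) ∈ (normalizer (X : Set H)).map e.toMonoidHom :=
        (hmem _ _).2 (h2 g hg)
      rw [map_mul, map_mul, map_inv] at h3
      exact h3
    · rintro ⟨h1, h2⟩
      refine ⟨h1, fun g hg => ?_⟩
      have h3 := h2 (e g) ((hmem _ _).2 hg)
      rw [← map_inv, ← map_mul, ← map_mul, hmem] at h3
      exact h3
  · intro Y hY hc hn
    obtain ⟨Y, rfl⟩ := exists_map e Y
    rw [hnor, hnor, hinf, hnor, hle] at hn
    rw [hle] at hY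
    rw [card_map'] at hc
    rw [F.f_uniq Y hY hc hn]
  · intro R hR hne hn
    obtain ⟨R, rfl⟩ := exists_map e R
    rw [hnor, hnor, hinf, hnor, hle] at hn
    rw [hle] at hR ⊢
    exact F.f_max R hR (fun h => hne (by rw [h])) hn

/-- `CoFacts` pulled back along an isomorphism and a conjugation. -/
theorem CoFacts.exists_of {X : Subgroup H} {E Xi Xf P : Subgroup K} (F : CoFacts E Xi Xf P)
    (hX : ∃ g : K, X.map e.toMonoidHom = E.map (MulAut.conj g).toMonoidHom) :
    ∃ Xi' Xf' P' : Subgroup H, CoFacts X Xi' Xf' P' := by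
  obtain ⟨g, hg⟩ := hX
  have F1 := (F.map (MulAut.conj g)).map e.symm
  have h1 : ((E.map (MulAut.conj g).toMonoidHom).map e.symm.toMonoidHom) = X := by
    rw [← hg, Subgroup.map_map]
    have : e.symm.toMonoidHom.comp e.toMonoidHom = MonoidHom.id H := by
      ext x
      exact e.symm_apply_apply x
    rw [this, Subgroup.map_id]
  exact ⟨_, _, _, h1 ▸ F1⟩

end

end Cfsg.Agent.Omega.EH3.CoTwo
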