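import Cfsg.Agent.Omega.EH3.CoTwo.Row
import Cfsg.Agent.Omega.EH3.Main

/-!
# EH3: the row `Co₂` in the form of the assembly (helper665)
-/

set_option autoImplicit false

namespace Cfsg.Agent.Omega.EH3.CoTwo.Close

open Subgroup Cfsg Cfsg.Agent.Omega.EH3 Cfsg.Agent.Omega.EH3.Main
open Cfsg.Agent.Omega.Frame (Ctx Cls All)

universe u

/-- **the row `Co₂`** -/
theorem rowG : RowG.{u} All (fun X _ w => Spor.IsoCo2 X ∧ w = 11) := by
  intro G _ _ _ Q A z a w S L hL hq hodd hX hP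
  exact (Row.row S.ctx.char2 S.pair S.cfg hP.2 hL hP.1 (oddCover_mk (commutator_eq_top hq) hodd)).elim

end Cfsg.Agent.Omega.EH3.CoTwo.Close
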