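import Cfsg.Agent.Omega.EH3.CoTwo.Facts

/-!
# EH3, row `Co₂`, the device: `T` does not vanish on a subgroup of index `2` of `X` (helper665)
-/

set_option autoImplicit false
set_option linter.unusedSectionVars false
set_option linter.unusedVariables false

namespace Cfsg.Agent.Omega.EH3.CoTwo

open Subgroup Cfsg.Agent.Omega.EH3

section Grp

variable {H : Type*} [Group H]

theorem card_mul_relIndex' {K X : Subgroup H} (h : K ≤ X) :
    Nat.card K * K.relIndex X = Nat.card X := by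
  have := relIndex_mul_relIndex ⊥ K X bot_le h
  rwa [relIndex_bot_left, relIndex_bot_left] at this

theorem mul_mem_of_two {X K : Subgroup H} (h : K.relIndex X = 2) {u v : H} (hu : u ∈ X)
    (hv : v ∈ X) (hu' : u ∉ K) (hv' : v ∉ K) : u * v ∈ K := by
  have h1 := Subgroup.mul_mem_iff_of_index_two (H := K.subgroupOf X) h (a := ⟨u, hu⟩)
    (b := ⟨v, hv⟩)
  rw [mem_subgroupOf, mem_subgroupOf, mem_subgroupOf] at h1
  exact h1.2 ⟨fun h2 => absurd h2 hu', fun h2 => absurd h2 hv'⟩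

theorem card_le_two_inf {X K M : Subgroup H} (h : K.relIndex X = 2) (hM : M ≤ X) :
    Nat.card M ≤ 2 * Nat.card (M ⊓ K : Subgroup H) := by
  have h1 := card_mul_relIndex' (inf_le_left : M ⊓ K ≤ M)
  rw [inf_relIndex_left] at h1
  have h2 : K.relIndex M ≤ K.relIndex X := relIndex_le_of_le_right hM (by rw [h]; norm_num)
  rw [h] at h2
  rw [← h1, mul_comm]
  exact Nat.mul_le_mul_right _ h2

theorem le_normalizer_of {N Y : Subgroup H} (h : ∀ g ∈ N, ∀ y ∈ Y, g * y * g⁻¹ ∈ Y) :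
    N ≤ normalizer (Y : Set H) := by
  intro g hg
  rw [mem_normalizer_iff]
  intro y
  constructor
  · exact fun hy => h g hg y hy
  · intro hy
    have h1 := h g⁻¹ (inv_mem hg) _ hy
    have h2 : g⁻¹ * (g * y * g⁻¹) * g⁻¹⁻¹ = y := by group
    rwa [h2] at h1

theorem lin_ext {A B : Subgroup H} {e : H} (he : e ∈ A) (hB : B ≤ A)
    (hAB : ∀ u ∈ A, u ∈ B ∨ e * u ∈ B) (f : H → ZMod 2)
    (hf : ∀ u ∈ A, ∀ v ∈ A, f (u * v) = f u + f v) (h1 : ∀ u ∈ B, f u = 0) (h2 : f e = 0) :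
    ∀ u ∈ A, f u = 0 := by
  intro u hu
  rcases hAB u hu with h | h
  · exact h1 u h
  · have h3 := hf e he u hu
    rw [h1 _ h, h2, zero_add] at h3
    exact h3.symm

theorem bil_ext {A B : Subgroup H} {e : H} (he : e ∈ A) (hB : B ≤ A)
    (hAB : ∀ u ∈ A, u ∈ B ∨ e * u ∈ B) (f : H → H → ZMod 2)
    (hf1 : ∀ u ∈ A, ∀ u' ∈ A, ∀ v ∈ A, f (u * u') v = f u v + f u' v)
    (hf2 : ∀ u ∈ A, ∀ v ∈ A, ∀ v' ∈ A, f u (v * v') = f u v + f u v')
    (h1 : ∀ u ∈ B, ∀ v ∈ B, f u v = 0) (h2 : ∀ v ∈ B, f e v = 0) (h3 : ∀ u ∈ B, f u e = 0)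
    (h4 : f e e = 0) : ∀ u ∈ A, ∀ v ∈ A, f u v = 0 := by
  intro u hu v hv
  refine lin_ext he hB hAB (fun u => f u v) (fun u hu u' hu' => hf1 u hu u' hu' v hv) ?_ ?_ u hu
  · intro u hu
    exact lin_ext he hB hAB (fun v => f u v) (hf2 u (hB hu)) (h1 u hu) (h3 u hu) v hv
  · exact lin_ext he hB hAB (fun v => f e v) (hf2 e he) h2 h4 v hv

end Grp

variable {H V : Type*} [Group H] [AddCommGroup V] [Module (ZMod 2) V]
  {ρ : H →* (V ≃ₗ[ZMod 2] V)} {b : LinearMap.BilinForm (ZMod 2) V} {q : V → ZMod 2}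
  {a : V} {D : Submodule (ZMod 2) V} {X : Subgroup H} {w : ℕ}

/-- `T` is invariant under the stabiliser of `a`. -/
theorem TT_conj (C : Cfg ρ b q a D X w) {c : V} (hc : b a c = 1) {h : H} (hh : ρ h a = a)
    {x y t : H} (hx : x ∈ X) (hy : y ∈ X) (ht : t ∈ X) :
    TT ρ b c (h * x * h⁻¹) (h * y * h⁻¹) (h * t * h⁻¹) = TT ρ b c x y t := by
  have h1 : b a (ρ h c) = 1 := by rw [C.b_a_ρ hh, hc]
  rw [← b_indep C hc h1 h1 (C.X_norm h hh x hx) (C.X_norm h hh y hy) (C.X_norm h hh t ht),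
    cm_conj C, cm_conj C, cm_conj C, C.b_inv]
  rfl

theorem tri_ext (C : Cfg ρ b q a D X w) {c : V} {K : Subgroup H} {e : H} (he : e ∈ X)
    (hK : K ≤ X) (hKe : ∀ u ∈ X, u ∈ K ∨ e * u ∈ K)
    (h1 : ∀ x ∈ K, ∀ y ∈ K, ∀ t ∈ K, TT ρ b c x y t = 0)
    (h2 : ∀ y ∈ K, ∀ t ∈ K, TT ρ b c e y t = 0) :
    ∀ x ∈ X, ∀ y ∈ X, ∀ t ∈ X, TT ρ b c x y t = 0 := by
  intro x hx y hy t ht
  refine lin_ext he hK hKe (fun x => TT ρ b c x y t)
    (fun u hu v hv => TT_mul1 C hu hv hy ht) ?_ ?_ x hx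
  · intro u hu
    refine bil_ext he hK hKe (fun y t => TT ρ b c u y t)
      (fun v hv v' hv' t ht => TT_mul2 C (hK hu) hv hv' ht)
      (fun v hv t ht t' ht' => TT_mul3 C (hK hu) hv ht ht') (h1 u hu) ?_ ?_ ?_ y hy t ht
    · intro v hv
      show TT ρ b c u e v = 0
      rw [TT_comm12 C (hK hu) he]
      exact h2 u hu v hv
    · intro v hv
      show TT ρ b c u v e = 0
      rw [TT_comm13 C (hK hu) (hK hv) he]
      exact h2 v hv u hu
    · exact TT_self23 C (hK hu) he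
  · refine bil_ext he hK hKe (fun y t => TT ρ b c e y t)
      (fun v hv v' hv' t ht => TT_mul2 C he hv hv' ht)
      (fun v hv t ht t' ht' => TT_mul3 C he hv ht ht') h2 ?_ ?_ ?_ y hy t ht
    · intro v hv
      exact TT_self12 C he
    · intro v hv
      exact TT_self13 C he (hK hv)
    · exact TT_self12 C he

/-- **(DIV)** `T` does not vanish on a subgroup of index `2` of `X`. -/
theorem exists_TT_ne (C : Cfg ρ b q a D X w) (hcard : Nat.card X = 2 ^ 10)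
    (irr : ∀ Y : Subgroup H, Y ≤ X → Y ≠ ⊥ →
      normalizer (X : Set H) ≤ normalizer (Y : Set H) → Y = X)
    {c : V} (hc : b a c = 1) {K : Subgroup H} (hK : K ≤ X) (hKc : Nat.card K = 2 ^ 9) :
    ∃ x ∈ K, ∃ y ∈ K, ∃ t ∈ K, TT ρ b c x y t ≠ 0 := by
  by_contra hcon
  push Not at hcon
  have hfin := C.finite_H
  -- the family
  let S : Set (Subgroup H) := {K | K ≤ X ∧ Nat.card K = 2 ^ 9 ∧
    ∀ x ∈ K, ∀ y ∈ K, ∀ t ∈ K, TT ρ b c x y t = 0}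
  have hKS : K ∈ S := ⟨hK, hKc, hcon⟩
  have hidx : ∀ M ∈ S, M.relIndex X = 2 := by
    intro M hM
    have h1 := card_mul_relIndex' hM.1
    rw [hM.2.1, hcard] at h1
    have h2 : 2 ^ 9 * M.relIndex X = 2 ^ 9 * 2 := by rw [h1]; norm_num
    exact Nat.eq_of_mul_eq_mul_left (by norm_num) h2
  -- the family is invariant
  have hconj : ∀ g, ρ g a = a → ∀ M ∈ S, M.map (MulAut.conj g⁻¹).toMonoidHom ∈ S := by
    intro g hg M hM
    have hg' : ρ g⁻¹ a = a := C.fix_inv hg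
    refine ⟨?_, ?_, ?_⟩
    · rintro _ ⟨m, hm, rfl⟩
      exact C.X_norm g⁻¹ hg' m (hM.1 hm)
    · rw [← hM.2.1]
      exact Nat.card_congr (M.equivMapOfInjective _ (MulAut.conj g⁻¹).injective).symm.toEquiv
    · rintro _ ⟨x, hx, rfl⟩ _ ⟨y, hy, rfl⟩ _ ⟨t, ht, rfl⟩
      have := TT_conj C hc hg' (hM.1 hx) (hM.1 hy) (hM.1 ht)
      rw [hM.2.2 x hx y hy t ht] at this
      exact this
  -- the intersection is trivial
  have hY : X ⊓ sInf S = ⊥ := by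
    by_contra hne
    have h1 := irr (X ⊓ sInf S) inf_le_left hne (le_normalizer_of fun g hg y hy => by
      rw [mem_N_iff C] at hg
      refine mem_inf.2 ⟨C.X_norm g hg y (mem_inf.1 hy).1, ?_⟩
      rw [mem_sInf]
      intro M hM
      have h2 := mem_sInf.1 (mem_inf.1 hy).2 _ (hconj g hg M hM)
      obtain ⟨m, hm, hmy⟩ := h2
      have h3 : g⁻¹ * m * g⁻¹⁻¹ = y := hmy
      rw [← h3]
      have h4 : g * (g⁻¹ * m * g⁻¹⁻¹) * g⁻¹ = m := by group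
      rw [h4]
      exact hm)
    have h2 : X ≤ K := by
      rw [← h1]
      exact inf_le_right.trans (sInf_le hKS)
    have h3 := Subgroup.card_le_of_le h2
    rw [hcard, hKc] at h3
    norm_num at h3
  have hex : ∀ M : Subgroup H, M ≤ X → 1 < Nat.card M → ∃ L ∈ S, ∃ e ∈ M, e ∉ L := by
    intro M hM hM1
    by_contra hcon2
    push Not at hcon2
    have h1 : M ≤ X ⊓ sInf S :=
      le_inf hM (fun e he => mem_sInf.2 fun L hL => hcon2 L hL e he)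
    rw [hY, le_bot_iff] at h1
    rw [h1, Subgroup.card_bot] at hM1
    exact lt_irrefl _ hM1
  have hX1 : ∃ e ∈ X, e ∉ K := by
    by_contra hcon2
    push Not at hcon2
    have h3 := Subgroup.card_le_of_le (H := X) (K := K) hcon2
    rw [hcard, hKc] at h3
    norm_num at h3
  obtain ⟨K2, hK2, f2, hf2, hf2'⟩ := hex K hK (by rw [hKc]; norm_num)
  have hc2 := card_le_two_inf (hidx K2 hK2) hK
  rw [hKc] at hc2
  obtain ⟨K3, hK3, f3, hf3, hf3'⟩ := hex (K ⊓ K2) (inf_le_left.trans hK) (by omega)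
  have hc3 := card_le_two_inf (hidx K3 hK3) (inf_le_left.trans hK : K ⊓ K2 ≤ X)
  obtain ⟨K4, hK4, e4, he4, he4'⟩ := hex (K ⊓ K2 ⊓ K3) (inf_le_left.trans (inf_le_left.trans hK))
    (by omega)
  obtain ⟨f1, hf1, hf1'⟩ := hX1
  obtain ⟨⟨h41, h42⟩, h43⟩ : (e4 ∈ K ∧ e4 ∈ K2) ∧ e4 ∈ K3 := by
    rw [mem_inf, mem_inf] at he4
    exact he4
  have mulout : ∀ M ∈ S, ∀ u ∈ X, ∀ v ∈ X, u ∉ M → v ∉ M → u * v ∈ M :=
    fun M hM u hu v hv hu' hv' => mul_mem_of_two (hidx M hM) hu hv hu' hv'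
  -- the adjustment
  have adj : ∀ M ∈ S, ∀ e ∈ X, e ∉ M → ∀ u ∈ X, u ∈ M ∨ u * e ∈ M := by
    intro M hM e he he' u hu
    by_cases h : u ∈ M
    · exact Or.inl h
    · exact Or.inr (mulout M hM u hu e he h he')
  obtain ⟨e3, h3X, h31, h32, h33, h34⟩ : ∃ e3 ∈ X, e3 ∈ K ∧ e3 ∈ K2 ∧ e3 ∉ K3 ∧ e3 ∈ K4 := by
    have g1 : f3 ∈ K ∧ f3 ∈ K2 := mem_inf.1 hf3
    rcases adj K4 hK4 e4 (hK h41) he4' f3 (hK g1.1) with h | h
    · exact ⟨f3, hK g1.1, g1.1, g1.2, hf3', h⟩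
    · exact ⟨f3 * e4, hK (K.mul_mem g1.1 h41), K.mul_mem g1.1 h41, K2.mul_mem g1.2 h42,
        fun h5 => hf3' ((K3.mul_mem_cancel_right h43).1 h5), h⟩
  obtain ⟨e2, h2X, h21, h22, h23, h24⟩ : ∃ e2 ∈ X, e2 ∈ K ∧ e2 ∉ K2 ∧ e2 ∈ K3 ∧ e2 ∈ K4 := by
    obtain ⟨g, gX, g1, g2, g3⟩ : ∃ g ∈ X, g ∈ K ∧ g ∉ K2 ∧ g ∈ K3 := by
      rcases adj K3 hK3 e3 h3X h33 f2 (hK hf2) with h | h
      · exact ⟨f2, hK hf2, hf2, hf2', h⟩
      · exact ⟨f2 * e3, hK (K.mul_mem hf2 h31), K.mul_mem hf2 h31,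
          fun h5 => hf2' ((K2.mul_mem_cancel_right h32).1 h5), h⟩
    rcases adj K4 hK4 e4 (hK h41) he4' g gX with h | h
    · exact ⟨g, gX, g1, g2, g3, h⟩
    · exact ⟨g * e4, hK (K.mul_mem g1 h41), K.mul_mem g1 h41,
        fun h5 => g2 ((K2.mul_mem_cancel_right h42).1 h5), K3.mul_mem g3 h43, h⟩
  obtain ⟨e1, h1X, h11, h12, h13, h14⟩ : ∃ e1 ∈ X, e1 ∉ K ∧ e1 ∈ K2 ∧ e1 ∈ K3 ∧ e1 ∈ K4 := by
    obtain ⟨g, gX, g1, g2⟩ : ∃ g ∈ X, g ∉ K ∧ g ∈ K2 := by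
      rcases adj K2 hK2 e2 h2X h22 f1 hf1 with h | h
      · exact ⟨f1, hf1, hf1', h⟩
      · exact ⟨f1 * e2, X.mul_mem hf1 h2X, fun h5 => hf1' ((K.mul_mem_cancel_right h21).1 h5), h⟩
    obtain ⟨g', gX', g1', g2', g3'⟩ : ∃ g ∈ X, g ∉ K ∧ g ∈ K2 ∧ g ∈ K3 := by
      rcases adj K3 hK3 e3 h3X h33 g gX with h | h
      · exact ⟨g, gX, g1, g2, h⟩
      · exact ⟨g * e3, X.mul_mem gX h3X, fun h5 => g1 ((K.mul_mem_cancel_right h31).1 h5),
          K2.mul_mem g2 h32, h⟩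
    rcases adj K4 hK4 e4 (hK h41) he4' g' gX' with h | h
    · exact ⟨g', gX', g1', g2', g3', h⟩
    · exact ⟨g' * e4, X.mul_mem gX' (hK h41), fun h5 => g1' ((K.mul_mem_cancel_right h41).1 h5),
        K2.mul_mem g2' h42, K3.mul_mem g3' h43, h⟩
  -- the computation
  have split : ∀ M ∈ S, ∀ e ∈ X, e ∉ M → ∀ u ∈ X, u ∈ M ∨ e * u ∈ M := by
    intro M hM e he he' u hu
    by_cases h : u ∈ M
    · exact Or.inl h
    · exact Or.inr (mulout M hM e he u hu he' h)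
  have hT : ∀ x ∈ X, ∀ y ∈ X, ∀ t ∈ X, TT ρ b c x y t = 0 := by
    refine tri_ext C h1X hK (split K hKS e1 h1X h11) hcon ?_
    refine bil_ext (A := K) (B := K ⊓ K2) h21 inf_le_left ?_ (fun y t => TT ρ b c e1 y t)
      (fun v hv v' hv' t ht => TT_mul2 C h1X (hK hv) (hK hv') (hK ht))
      (fun v hv t ht t' ht' => TT_mul3 C h1X (hK hv) (hK ht) (hK ht')) ?_ ?_ ?_ ?_
    · intro u hu
      rcases split K2 hK2 e2 h2X h22 u (hK hu) with h | h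
      · exact Or.inl (mem_inf.2 ⟨hu, h⟩)
      · exact Or.inr (mem_inf.2 ⟨K.mul_mem h21 hu, h⟩)
    · intro u hu v hv
      exact hK2.2.2 e1 h12 u (mem_inf.1 hu).2 v (mem_inf.1 hv).2
    · have h5 : ∀ v ∈ K ⊓ K2, TT ρ b c e1 e2 v = 0 := by
        refine lin_ext (A := K ⊓ K2) (B := K ⊓ K2 ⊓ K3) (e := e3) (mem_inf.2 ⟨h31, h32⟩)
          inf_le_left ?_ (fun t => TT ρ b c e1 e2 t) ?_ ?_ ?_
        · intro u hu
          rcases split K3 hK3 e3 h3X h33 u (hK (mem_inf.1 hu).1) with h | h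
          · exact Or.inl (mem_inf.2 ⟨hu, h⟩)
          · exact Or.inr (mem_inf.2 ⟨(K ⊓ K2).mul_mem (mem_inf.2 ⟨h31, h32⟩) hu, h⟩)
        · intro u hu v hv
          exact TT_mul3 C h1X h2X (hK (mem_inf.1 hu).1) (hK (mem_inf.1 hv).1)
        · intro u hu
          exact hK3.2.2 e1 h13 e2 h23 u (mem_inf.1 hu).2
        · exact hK4.2.2 e1 h14 e2 h24 e3 h34
      exact h5
    · intro v hv
      show TT ρ b c e1 v e2 = 0
      rw [TT_comm23 C h1X (hK (mem_inf.1 hv).1) h2X]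
      have h5 : ∀ v ∈ K ⊓ K2, TT ρ b c e1 e2 v = 0 := by
        refine lin_ext (A := K ⊓ K2) (B := K ⊓ K2 ⊓ K3) (e := e3) (mem_inf.2 ⟨h31, h32⟩)
          inf_le_left ?_ (fun t => TT ρ b c e1 e2 t) ?_ ?_ ?_
        · intro u hu
          rcases split K3 hK3 e3 h3X h33 u (hK (mem_inf.1 hu).1) with h | h
          · exact Or.inl (mem_inf.2 ⟨hu, h⟩)
          · exact Or.inr (mem_inf.2 ⟨(K ⊓ K2).mul_mem (mem_inf.2 ⟨h31, h32⟩) hu, h⟩)
        · intro u hu v hv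
          exact TT_mul3 C h1X h2X (hK (mem_inf.1 hu).1) (hK (mem_inf.1 hv).1)
        · intro u hu
          exact hK3.2.2 e1 h13 e2 h23 u (mem_inf.1 hu).2
        · exact hK4.2.2 e1 h14 e2 h24 e3 h34
      exact h5 v hv
    · exact TT_self23 C h1X h2X
  have hX : ∀ y ∈ X, y = 1 := fun y hy => eq_one_of_TT C hc hy (hT y hy)
  have : X = ⊥ := (Subgroup.eq_bot_iff_forall X).2 hX
  rw [this, Subgroup.card_bot] at hcard
  norm_num at hcard

end Cfsg.Agent.Omega.EH3.CoTwo
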