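import Cfsg.Agent.Omega.EH3.CoTwo.Conj
import Cfsg.Agent.Omega.EH3.CoTwo.Good
import Cfsg.Agent.Omega.EH3.CoTwo.Move
import Cfsg.Agent.Omega.EH3.CoTwo.Glue
import Cfsg.Agent.Omega.EH3.Of

/-!
# EH3, row `Co₂` : the configuration with the facts `CoFacts` does not occur in characteristic 2 type (helper665)

(#12091, #12404 helper933; 962 = `Move`, 737 = `Good`)
-/

set_option autoImplicit false

namespace Cfsg.Agent.Omega.EH3.CoTwo

open Subgroup Cfsg.Agent.Omega.EH3
open Cfsg.Agent.Co2Type.Quad Cfsg.Agent.LargeExtra.Base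

section

variable {H V : Type*} [Group H] [AddCommGroup V] [Module (ZMod 2) V]
  {ρ : H →* (V ≃ₗ[ZMod 2] V)} {b : LinearMap.BilinForm (ZMod 2) V} {q : V → ZMod 2}
  {a : V} {D : Submodule (ZMod 2) V} {X : Subgroup H} {w : ℕ} {Xi Xf P : Subgroup H}

/-- `|Ξ_f| = 2⁹`. -/
theorem card_Xf (C : Cfg ρ b q a D X w) (F : CoFacts X Xi Xf P) {e : V} (he0 : e ≠ 0)
    (hea : e ≠ a) (heD : e ∈ D) (hf : ∀ x ∈ X, x ∈ Xf ↔ ρ x e = e) : Nat.card Xf = 2 ^ 9 := by
  have hfin := C.finite_H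
  have hle : Xf ≤ X := fun x hx => ((F.Xf_def x).1 hx).1
  -- an element of `X` moving `e`
  obtain ⟨s, hs, hse⟩ : ∃ s ∈ X, ρ s e ≠ e := by
    by_contra hcon
    push Not at hcon
    rcases fix_X C hcon with h | h
    · exact he0 h
    · exact hea h
  have h2 : Xf.relIndex X = 2 := by
    rw [relIndex_eq_two_iff]
    refine ⟨s, hs, fun y hy => ?_⟩
    have hse' : ρ s e = e + a := (C.X_D s hs e heD).resolve_left hse
    rcases C.X_D y hy e heD with h | h
    · right
      refine ⟨(hf y hy).2 h, fun h1 => hse ?_⟩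
      have h3 := (hf _ (X.mul_mem hy hs)).1 h1
      rw [C.ρ_mul, hse', map_add, h, C.X_a hy] at h3
      rw [hse']; exact h3
    · left
      refine ⟨(hf _ (X.mul_mem hy hs)).2 ?_, fun h1 => ?_⟩
      · rw [C.ρ_mul, hse', map_add, h, C.X_a hy, C.add_add_self]
      · have h3 := (hf y hy).1 h1
        rw [h] at h3
        apply C.a_ne
        have h4 : e + a = e + 0 := by rw [add_zero]; exact h3
        exact add_left_cancel h4
  have h3 := card_mul_relIndex' hle
  rw [h2, F.card] at h3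
  omega

theorem ptH_of_pt (C : Cfg ρ b q a D X w) (F : CoFacts X Xi Xf P) {x : V}
    (hx : Pt ρ a D X Xi x) : PtH ρ a D X Xi x where
  toPt := hx
  cen := fix_Xi C F hx
  nconj := fun g => ⟨not_conj C F hx g, not_conj C F (hx.add_a C) g⟩
  norm := norm_Xi C F hx
  move := by
    obtain ⟨c, hc⟩ := C.exists_off
    obtain ⟨e, heD, he0, hea, hf, g, hga, hge⟩ := exists_pt_P C F
    exact Cfsg.Agent.Omega.EH3.CoTwo.move C F hc
      (exists_TT_ne C F.card F.irr hc (fun x hx => ((F.Xf_def x).1 hx).1)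
        (card_Xf C F he0 hea heD hf)) hx.mem hx.ne0 hx.nea hx.fix

/-- **the vector `x̃` is good.** -/
theorem good_of_pt (C : Cfg ρ b q a D X w) (F : CoFacts X Xi Xf P) {x : V}
    (hx : Pt ρ a D X Xi x) : Good ρ b x :=
  ⟨fun U hU hU2 hn => PtH.good8 C F (ptH_of_pt C F hx) U hU hU2 hn,
    fun F0 h1 h2 h3 => PtH.good9 C F (ptH_of_pt C F hx) F0 h1 h2 h3⟩

/-- the abstract form: a good vector of `D`, and its `a`-translate is good. -/
theorem main (C : Cfg ρ b q a D X w) (F : CoFacts X Xi Xf P) :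
    ∃ x ∈ D, x ≠ 0 ∧ x ≠ a ∧ Good ρ b x ∧ Good ρ b (x + a) := by
  obtain ⟨x, hx⟩ := exists_point C F
  exact ⟨x, hx.mem, hx.ne0, hx.nea, good_of_pt C F hx, good_of_pt C F (hx.add_a C)⟩

end

/-- **the row `Co₂`**: a pair with the configuration and the facts on `K` is impossible. -/
theorem false_of_facts {G : Type*} [Group G] [Finite G] (hG : IsCharacteristicTwoType G)
    {Q A : Subgroup G} {z a : G} (p : Pair Q z A a) {w : ℕ}
    (C : Cfg (p.H.subtype : p.H →* (p.lz.V ≃ₗ[ZMod 2] p.lz.V)) p.lz.b p.lz.q p.va p.D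
      (p.X.subgroupOf p.H) w)
    {Xi Xf P : Subgroup p.H} (F : CoFacts (p.X.subgroupOf p.H) Xi Xf P) : False := by
  obtain ⟨x, hxD, hx0, hxa, g1, g2⟩ := main C F
  refine false_of_good hG p ?_ hxD hx0 hxa g1 g2
  have h1 := p.lz.card_eq
  have h2 := C.card_V
  have h3 : 2 ^ 4 ≤ Nat.card p.lz.V := by
    rw [h2]
    exact Nat.pow_le_pow_right (by norm_num) (by have := C.five; omega)
  omega

end Cfsg.Agent.Omega.EH3.CoTwo
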