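import Cfsg.Agent.Omega.EH3.CoTwo.Vec

/-!
# EH3, row `Co₂`, (1), (3), (4): `C_V(Ξ) = {0, a, x̃, x̃ + a}`, `x̃` is not conjugate to `a`, `N_H(Ξ) ≤ H_a` (helper665)
-/

set_option autoImplicit false
set_option linter.unusedSectionVars false
set_option linter.unusedVariables false

namespace Cfsg.Agent.Omega.EH3.CoTwo

open Subgroup Cfsg.Agent.Omega.EH3

variable {H V : Type*} [Group H] [AddCommGroup V] [Module (ZMod 2) V]
  {ρ : H →* (V ≃ₗ[ZMod 2] V)} {b : LinearMap.BilinForm (ZMod 2) V} {q : V → ZMod 2}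
  {a : V} {D : Submodule (ZMod 2) V} {X : Subgroup H} {w : ℕ} {Xi Xf P : Subgroup H}

/-- the stabiliser of a vector. -/
def St (ρ : H →* (V ≃ₗ[ZMod 2] V)) (v : V) : Subgroup H where
  carrier := {g | ρ g v = v}
  one_mem' := by
    show ρ 1 v = v
    rw [map_one]; rfl
  mul_mem' := by
    intro g h hg hh
    show ρ (g * h) v = v
    rw [map_mul]
    show ρ g (ρ h v) = v
    rw [show ρ h v = v from hh]; exact hg
  inv_mem' := by
    intro g hg
    show ρ g⁻¹ v = v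
    have h1 : ρ (g⁻¹ * g) v = v := by rw [inv_mul_cancel, map_one]; rfl
    rw [map_mul] at h1
    have h2 : ρ g⁻¹ (ρ g v) = v := h1
    rwa [show ρ g v = v from hg] at h2

theorem mem_St {v : V} {g : H} : g ∈ St ρ v ↔ ρ g v = v := Iff.rfl

theorem normalizer_X (C : Cfg ρ b q a D X w) : normalizer (X : Set H) = St ρ a :=
  Subgroup.ext fun _ => mem_N_iff C

/-- fixed vectors modulo a subspace, by at most four commutators. -/
theorem exists_step (C : Cfg ρ b q a D X w) {Z : Subgroup H} (hZ : Z ≤ X)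
    {F0 W : Submodule (ZMod 2) V} (hF : ∀ z ∈ Z, ∀ v ∈ F0, ρ z v ∈ F0) {v : V} (hv : v ∈ F0)
    (hvW : v ∉ W) : ∃ u ∈ F0, u ∉ W ∧ ∀ z ∈ Z, cm ρ z u ∈ W := by
  by_contra hcon
  push Not at hcon
  have hcm : ∀ z ∈ Z, ∀ u ∈ F0, cm ρ z u ∈ F0 := fun z hz u hu => F0.add_mem (hF z hz u hu) hu
  obtain ⟨z1, hz1, h1⟩ := hcon v hv hvW
  have f1 := hcm z1 hz1 v hv
  obtain ⟨z2, hz2, h2⟩ := hcon _ f1 h1
  have f2 := hcm z2 hz2 _ f1
  have d2 : cm ρ z2 (cm ρ z1 v) ∈ D := cm_P C (hZ hz2) (cm_perp C (hZ hz1) v)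
  obtain ⟨z3, hz3, h3⟩ := hcon _ f2 h2
  have f3 := hcm z3 hz3 _ f2
  obtain ⟨z4, hz4, h4⟩ := hcon _ f3 h3
  apply h4
  rcases cm_D C (hZ hz3) d2 with h5 | h5
  · rw [h5, cm_zero]; exact W.zero_mem
  · rw [h5, cm_a C (hZ hz4)]; exact W.zero_mem

section

variable (C : Cfg ρ b q a D X w) (F : CoFacts X Xi Xf P) {x : V} (hx : Pt ρ a D X Xi x)

include C F hx in
theorem mem_Ni {g : H} :
    g ∈ normalizer (X : Set H) ⊓ normalizer (Xi : Set H) ↔
      ρ g a = a ∧ (ρ g x = x ∨ ρ g x = x + a) := by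
  have key : ∀ g : H, ρ g a = a → (ρ g x = x ∨ ρ g x = x + a) → ∀ y ∈ Xi, g * y * g⁻¹ ∈ Xi := by
    intro g hga hgx y hy
    have h1 := C.X_norm g hga y (F.pi_le hy)
    have h2 : ρ (g * y * g⁻¹) (ρ g x) = ρ g x := by
      rw [← C.ρ_mul, inv_mul_cancel_right, C.ρ_mul, (hx.fix y (F.pi_le hy)).1 hy]
    rcases hgx with h3 | h3
    · rw [h3] at h2
      exact (hx.fix _ h1).2 h2
    · rw [h3] at h2
      exact ((hx.add_a C).fix _ h1).2 h2
  rw [mem_inf, mem_N_iff C]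
  constructor
  · rintro ⟨hga, hg⟩
    refine ⟨hga, ?_⟩
    have h1 : ∀ y ∈ Xi, ρ y (ρ g x) = ρ g x := by
      intro y hy
      have h2 : g⁻¹ * y * g ∈ Xi := by
        have h3 := (mem_normalizer_iff.1 (inv_mem hg) y).1 hy
        rwa [inv_inv] at h3
      have h4 := (hx.fix _ (F.pi_le h2)).1 h2
      rw [← C.ρ_mul]
      have h5 : y * g = g * (g⁻¹ * y * g) := by group
      rw [h5, C.ρ_mul, h4]
    rcases ann_Xi C F hx (C.D_inv g hga x hx.mem) h1 with h2 | h2 | h2 | h2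
    · exfalso
      apply hx.ne0
      have h3 := C.ρ_inv_apply g x
      rw [h2, map_zero] at h3
      exact h3.symm
    · exact absurd (C.ρ_inj g (h2.trans hga.symm)) hx.nea
    · exact Or.inl h2
    · exact Or.inr h2
  · rintro ⟨hga, hgx⟩
    refine ⟨hga, ?_⟩
    rw [mem_normalizer_iff]
    intro y
    constructor
    · exact fun hy => key g hga hgx y hy
    · intro hy
      have hga' := C.fix_inv hga
      have hgx' : ρ g⁻¹ x = x ∨ ρ g⁻¹ x = x + a := by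
        rcases hgx with h | h
        · exact Or.inl (C.fix_inv h)
        · right
          have h1 : ρ g⁻¹ (x + a) = x := by rw [← h]; exact C.ρ_inv_apply g x
          rw [map_add, hga'] at h1
          have h2 := congrArg (· + a) h1
          simp only [C.add_add_self] at h2
          exact h2
      have h1 := key g⁻¹ hga' hgx' _ hy
      have h2 : g⁻¹ * (g * y * g⁻¹) * g⁻¹⁻¹ = y := by group
      rwa [h2] at h1

include C F hx in
/-- an element of `X` outside `Ξ`. -/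
theorem exists_s : ∃ s ∈ X, s ∉ Xi ∧ ρ s x = x + a := by
  have hfin := C.finite_H
  have hsX : ∃ s ∈ X, s ∉ Xi := by
    by_contra hcon
    push Not at hcon
    have h3 := Subgroup.card_le_of_le (H := X) (K := Xi) hcon
    rw [F.card, F.pi_card] at h3
    norm_num at h3
  obtain ⟨s, hs, hs'⟩ := hsX
  exact ⟨s, hs, hs', (C.X_D s hs x hx.mem).resolve_left fun h2 => hs' ((hx.fix s hs).2 h2)⟩

include C F hx in
/-- every element of `N_i` is `s j`, with `j` fixing `a` and `x`. -/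
theorem Ni_cases {g : H} (hg : g ∈ normalizer (X : Set H) ⊓ normalizer (Xi : Set H)) :
    ∃ s ∈ X, ∃ j : H, ρ j a = a ∧ ρ j x = x ∧ g = s * j := by
  obtain ⟨hga, hgx⟩ := (mem_Ni C F hx).1 hg
  rcases hgx with h | h
  · exact ⟨1, X.one_mem, g, hga, h, by rw [one_mul]⟩
  · obtain ⟨s, hs, hs', hsx⟩ := exists_s C F hx
    refine ⟨s, hs, s⁻¹ * g, ?_, ?_, by group⟩
    · rw [C.ρ_mul, hga]; exact C.fix_inv (C.X_a hs)
    · rw [C.ρ_mul, h, ← hsx]; exact C.ρ_inv_apply s x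

include C F hx in
/-- a `2`-subgroup of `J = C(a) ∩ C(x̃)` normalised by `J` lies in `Ξ`. -/
theorem stab_two (U : Subgroup H) (hU : ∀ u ∈ U, ρ u a = a ∧ ρ u x = x) (hU2 : IsPGroup 2 U)
    (hn : ∀ g, ρ g a = a → ρ g x = x → ∀ u ∈ U, g * u * g⁻¹ ∈ U) : U ≤ Xi := by
  have hX2 : IsPGroup 2 X := by
    intro y
    refine ⟨1, Subtype.ext ?_⟩
    show (y : H) ^ (2 ^ 1) = 1
    rw [pow_one, pow_two]
    exact C.X_sq y y.2
  have hUN : U ≤ normalizer (X : Set H) := fun u hu => (mem_N_iff C).2 (hU u hu).1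
  have h1 : X ⊔ U ≤ X := by
    refine F.pi_two (X ⊔ U) ?_ (IsPGroup.to_sup_of_normal_left' hX2 hU2 hUN) ?_
    · refine sup_le (fun y hy => (mem_Ni C F hx).2 ⟨C.X_a hy, ?_⟩)
        (fun u hu => (mem_Ni C F hx).2 ⟨(hU u hu).1, Or.inl (hU u hu).2⟩)
      exact C.X_D y hy x hx.mem
    · refine le_normalizer_of fun g hg => ?_
      have h2 : X ⊔ U ≤ (X ⊔ U).comap (MulAut.conj g).toMonoidHom := by
        obtain ⟨s, hs, j, hja, hjx, rfl⟩ := Ni_cases C F hx hg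
        have hga : ρ (s * j) a = a := by rw [C.ρ_mul, hja, C.X_a hs]
        refine sup_le (fun y hy => ?_) (fun u hu => ?_)
        · rw [mem_comap]
          exact (le_sup_left : X ≤ X ⊔ U) (C.X_norm _ hga y hy)
        · rw [mem_comap]
          show s * j * u * (s * j)⁻¹ ∈ X ⊔ U
          have h3 : s * j * u * (s * j)⁻¹ = s * (j * u * j⁻¹) * s⁻¹ := by group
          rw [h3]
          have h4 : s ∈ X ⊔ U := (le_sup_left : X ≤ X ⊔ U) hs
          exact mul_mem (mul_mem h4 ((le_sup_right : U ≤ X ⊔ U) (hn j hja hjx u hu)))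
            (inv_mem h4)
      intro y hy
      exact h2 hy
  intro u hu
  exact (hx.fix u (h1 ((le_sup_right : U ≤ X ⊔ U) hu))).2 (hU u hu).2

include C F hx in
/-- `Ξ` is irreducible under `J`. -/
theorem stab_irr (Y : Subgroup H) (hY : Y ≤ Xi)
    (hn : ∀ g, ρ g a = a → ρ g x = x → ∀ y ∈ Y, g * y * g⁻¹ ∈ Y) : Y = ⊥ ∨ Y = Xi := by
  by_cases hne : Y = ⊥
  · exact Or.inl hne
  · right
    refine le_antisymm hY (F.pi_min Y (hY.trans F.pi_le) hne (le_normalizer_of ?_))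
    intro g hg y hy
    obtain ⟨s, hs, j, hja, hjx, rfl⟩ := Ni_cases C F hx hg
    have h3 : s * j * y * (s * j)⁻¹ = s * (j * y * j⁻¹) * s⁻¹ := by group
    have h4 := hn j hja hjx y hy
    rw [h3, C.X_comm hs (F.pi_le (hY h4)), mul_inv_cancel_right]
    exact h4

include C F in
/-- `Y₀ = 1`. -/
theorem Y0_eq {c : V} (hc : b a c = 1) {y : H} (hy : y ∈ X)
    (h : ∀ u ∈ Xi, ∀ v ∈ Xi, TT ρ b c y u v = 0) : y = 1 := by
  have hc1 : cm ρ (1 : H) c = 0 := by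
    rw [cm_eq_zero_iff C]; exact C.ρ_one c
  let Y0 : Subgroup H :=
    { carrier := {y | y ∈ X ∧ ∀ u ∈ Xi, ∀ v ∈ Xi, TT ρ b c y u v = 0}
      one_mem' := ⟨X.one_mem, fun u hu v hv => by unfold TT; rw [hc1, cm_zero]; simp⟩
      mul_mem' := by
        rintro y z ⟨hy, hy'⟩ ⟨hz, hz'⟩
        refine ⟨X.mul_mem hy hz, fun u hu v hv => ?_⟩
        rw [TT_mul1 C hy hz (F.pi_le hu) (F.pi_le hv), hy' u hu v hv, hz' u hu v hv, add_zero]
      inv_mem' := by
        rintro y ⟨hy, hy'⟩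
        rw [C.X_inv hy]
        exact ⟨hy, hy'⟩ }
  have hY0 : ∀ y, y ∈ Y0 ↔ y ∈ X ∧ ∀ u ∈ Xi, ∀ v ∈ Xi, TT ρ b c y u v = 0 := fun _ => Iff.rfl
  have h1 : Y0 = ⊥ := by
    by_contra hne
    have h2 := F.pi_min Y0 (fun y hy => ((hY0 y).1 hy).1) hne (le_normalizer_of ?_)
    · obtain ⟨u, hu, v, hv, t, ht, h3⟩ := exists_TT_ne C F.card F.irr hc F.pi_le F.pi_card
      exact h3 (((hY0 u).1 (h2 hu)).2 v hv t ht)
    · intro g hg y hy
      obtain ⟨hy1, hy2⟩ := (hY0 y).1 hy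
      have hga : ρ g a = a := (mem_N_iff C).1 (mem_inf.1 hg).1
      have hgi := inv_mem (mem_inf.1 hg).2
      refine (hY0 _).2 ⟨C.X_norm g hga y hy1, fun u hu v hv => ?_⟩
      have hu' : g⁻¹ * u * g ∈ Xi := by
        have h3 := (mem_normalizer_iff.1 hgi u).1 hu
        rwa [inv_inv] at h3
      have hv' : g⁻¹ * v * g ∈ Xi := by
        have h3 := (mem_normalizer_iff.1 hgi v).1 hv
        rwa [inv_inv] at h3
      have h4 := TT_conj C hc hga hy1 (F.pi_le hu') (F.pi_le hv')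
      have e1 : g * (g⁻¹ * u * g) * g⁻¹ = u := by group
      have e2 : g * (g⁻¹ * v * g) * g⁻¹ = v := by group
      rw [e1, e2, hy2 _ hu' _ hv'] at h4
      exact h4
  have h2 : y ∈ Y0 := (hY0 y).2 ⟨hy, h⟩
  rw [h1] at h2
  exact mem_bot.1 h2

include C F hx in
/-- (G): `[v, Ξ] ≤ {0, a, x̃, x̃ + a}` implies `v ∈ D`. -/
theorem mem_D_Xi (v : V) (h : ∀ y ∈ Xi, cm ρ y v = 0 ∨ cm ρ y v = a ∨ cm ρ y v = x ∨
    cm ρ y v = x + a) : v ∈ D := by
  obtain ⟨c, hc⟩ := C.exists_off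
  have hD : ∀ y ∈ Xi, cm ρ y v ∈ D ∧ ∀ t ∈ Xi, ρ t (cm ρ y v) = cm ρ y v := by
    intro y hy
    have hfx : ∀ t ∈ Xi, ρ t x = x := fun t ht => (hx.fix t (F.pi_le ht)).1 ht
    have hfa : ∀ t ∈ Xi, ρ t a = a := fun t ht => C.X_a (F.pi_le ht)
    rcases h y hy with h1 | h1 | h1 | h1
    · rw [h1]; exact ⟨D.zero_mem, fun t ht => map_zero _⟩
    · rw [h1]; exact ⟨C.a_mem, hfa⟩
    · rw [h1]; exact ⟨hx.mem, hfx⟩
    · rw [h1]; exact ⟨D.add_mem hx.mem C.a_mem, fun t ht => by rw [map_add, hfx t ht, hfa t ht]⟩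
  have hne : ∃ y ∈ Xi, y ≠ 1 := by
    by_contra hcon
    push Not at hcon
    have : Xi = ⊥ := (Subgroup.eq_bot_iff_forall Xi).2 hcon
    have h1 := F.pi_card
    rw [this, Subgroup.card_bot] at h1
    norm_num at h1
  have hv : b a v = 0 := by
    rcases zmod_two (b a v) with h1 | h1
    · exact h1
    · obtain ⟨y, hy, hy1⟩ := hne
      exact absurd (C.X_semi y (F.pi_le hy) v h1 (hD y hy).1) hy1
  obtain ⟨y, hy, hyv⟩ := exists_sigma C hc hv
  have hy1 : y = 1 := by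
    apply Y0_eq C F hc hy
    intro u hu t ht
    rw [← b_eq_TT C hc hy hyv (F.pi_le hu) (F.pi_le ht) hc]
    exact (b_functional C hc (F.pi_le ht)).2 ((cm_eq_zero_iff C).2 ((hD u hu).2 t ht))
  rw [hy1] at hyv
  have h2 : cm ρ (1 : H) c = 0 := by
    rw [cm_eq_zero_iff C]; exact C.ρ_one c
  rwa [h2, add_zero] at hyv

include C F hx in
/-- **(1)** `C_V(Ξ) = {0, a, x̃, x̃ + a}`. -/
theorem fix_Xi (v : V) (h : ∀ y ∈ Xi, ρ y v = v) : v = 0 ∨ v = a ∨ v = x ∨ v = x + a :=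
  ann_Xi C F hx (mem_D_Xi C F hx v fun y hy => Or.inl ((cm_eq_zero_iff C).2 (h y hy))) h

include C F in
/-- the device of (3): an element of order `3` commuting with `Ξ`, without fixed vectors. -/
theorem TT_zero_of_three {c : V} (hc : b a c = 1) {e : H}
    (he : ∀ y ∈ Xi, e * y * e⁻¹ = y) (h3 : ∀ v, v + ρ e v + ρ e (ρ e v) = 0)
    (hec : b a (ρ e c) = 1) {u v t : H} (hu : u ∈ Xi) (hv : v ∈ Xi) (ht : t ∈ Xi) :
    TT ρ b c u v t = 0 := by
  have hcube : ∀ v, ρ e (ρ e (ρ e v)) = v := by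
    intro v
    have e1 := h3 (ρ e v)
    have e2 := h3 v
    have e3 : ρ e (ρ e (ρ e v)) = ρ e v + ρ e (ρ e v) := (C.add_eq_zero.1 e1).symm
    have e4 : ρ e v + ρ e (ρ e v) = v := by
      rw [add_assoc] at e2
      exact (C.add_eq_zero.1 e2).symm
    rw [e3, e4]
  have hcm : ∀ y ∈ Xi, ∀ v, cm ρ y (ρ e v) = ρ e (cm ρ y v) := by
    intro y hy v
    have h1 := cm_conj C e y v
    rwa [he y hy] at h1
  have hT1 : b (cm ρ v (cm ρ u c)) (ρ e (cm ρ t c)) = TT ρ b c u v t := by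
    rw [← hcm t ht]
    exact b_indep C hc hc hec (F.pi_le hu) (F.pi_le hv) (F.pi_le ht)
  have hT2 : b (ρ e (cm ρ v (cm ρ u c))) (cm ρ t c) = TT ρ b c u v t := by
    rw [← hcm v hv, ← hcm u hu]
    exact b_indep C hc hec hc (F.pi_le hu) (F.pi_le hv) (F.pi_le ht)
  have hT3 : b (cm ρ v (cm ρ u c)) (ρ e (ρ e (cm ρ t c))) = TT ρ b c u v t := by
    rw [← C.b_inv e, hcube, hT2]
  have h4 := congrArg (b (cm ρ v (cm ρ u c))) (h3 (cm ρ t c))
  rw [map_add, map_add, map_zero, hT1, hT3] at h4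
  have h5 : b (cm ρ v (cm ρ u c)) (cm ρ t c) = TT ρ b c u v t := rfl
  rw [h5] at h4
  have : ∀ r : ZMod 2, r + r + r = 0 → r = 0 := by decide
  exact this _ h4

end

end Cfsg.Agent.Omega.EH3.CoTwo
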