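import Cfsg.Agent.Omega.EH3.CoTwo.Stab
import Mathlib.GroupTheory.Nilpotent

/-!
# EH3, row `Co₂` : the group `J = C_H(x) ∩ H_a` (helper737)

For `Pt ρ a D X Xi x` with `C_V(Ξ) = {0, a, x, x + a}` (`Cen`):
* `Cen.exists_dec` : `N_H(X) ∩ N_H(Ξ) = J ∪ J y`;
* `Cen.le_of_J`, `Cen.stab_irr` : a `J`-invariant subgroup `≠ 1` of `X` contains `Ξ`;
* `Cen.stab_two` : a normal 2-subgroup of `J` lies in `Ξ`.
-/

set_option autoImplicit false
set_option linter.unusedSectionVars false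

namespace Cfsg.Agent.Omega.EH3.CoTwo

open Subgroup Cfsg.Agent.Omega.EH3

section Grp

variable {H : Type*} [Group H]

theorem exists_of_mem_sup {A B : Subgroup H} (h : ∀ b ∈ B, ∀ a ∈ A, b * a * b⁻¹ ∈ A) {g : H}
    (hg : g ∈ A ⊔ B) : ∃ a ∈ A, ∃ b ∈ B, g = a * b := by
  let W : Subgroup H := {
    carrier := {g | ∃ a ∈ A, ∃ b ∈ B, g = a * b}
    one_mem' := ⟨1, A.one_mem, 1, B.one_mem, (mul_one 1).symm⟩
    mul_mem' := by
      rintro _ _ ⟨a, ha, b, hb, rfl⟩ ⟨a', ha', b', hb', rfl⟩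
      refine ⟨a * (b * a' * b⁻¹), A.mul_mem ha (h b hb a' ha'), b * b', B.mul_mem hb hb', ?_⟩
      group
    inv_mem' := by
      rintro _ ⟨a, ha, b, hb, rfl⟩
      refine ⟨b⁻¹ * a⁻¹ * b⁻¹⁻¹, h _ (B.inv_mem hb) _ (A.inv_mem ha), b⁻¹, B.inv_mem hb, ?_⟩
      group }
  have h1 : A ⊔ B ≤ W := by
    refine sup_le (fun a ha => ?_) (fun b hb => ?_)
    · exact ⟨a, ha, 1, B.one_mem, (mul_one a).symm⟩
    · exact ⟨1, A.one_mem, b, hb, (one_mul b).symm⟩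
  exact h1 hg

theorem exists_normalizer_of_lt [Finite H] {A W : Subgroup H} (hW : IsPGroup 2 W) (hA : A ≤ W)
    (hne : ¬ W ≤ A) : ∃ w ∈ W, w ∉ A ∧ w ∈ normalizer (A : Set H) := by
  have : Fact (Nat.Prime 2) := ⟨Nat.prime_two⟩
  have hnil : Group.IsNilpotent W := hW.isNilpotent
  have hc : NormalizerCondition W := Group.normalizerCondition_of_isNilpotent
  have h1 : A.subgroupOf W < ⊤ := by
    rw [lt_top_iff_ne_top]
    intro h
    exact hne (subgroupOf_eq_top.1 h)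
  obtain ⟨⟨w, hw⟩, h2, h3⟩ := SetLike.exists_of_lt (hc _ h1)
  refine ⟨w, hw, fun h4 => h3 (mem_subgroupOf.2 h4), ?_⟩
  rw [mem_normalizer_iff] at h2 ⊢
  intro a
  constructor
  · intro ha
    have := (h2 ⟨a, hA ha⟩).1 (mem_subgroupOf.2 ha)
    exact mem_subgroupOf.1 this
  · intro ha
    have haW : a ∈ W := by
      have h5 : w⁻¹ * (w * a * w⁻¹) * w ∈ W := W.mul_mem (W.mul_mem (W.inv_mem hw) (hA ha)) hw
      have h6 : w⁻¹ * (w * a * w⁻¹) * w = a := by group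
      rwa [h6] at h5
    have := (h2 ⟨a, haW⟩).2 (mem_subgroupOf.2 ha)
    exact mem_subgroupOf.1 this

end Grp

variable {H V : Type*} [Group H] [AddCommGroup V] [Module (ZMod 2) V]
  {ρ : H →* (V ≃ₗ[ZMod 2] V)} {b : LinearMap.BilinForm (ZMod 2) V} {q : V → ZMod 2}
  {a : V} {D : Submodule (ZMod 2) V} {X : Subgroup H} {w : ℕ} {Xi Xf P : Subgroup H}

theorem exists_out (C : Cfg ρ b q a D X w) (F : CoFacts X Xi Xf P) : ∃ y ∈ X, y ∉ Xi := by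
  by_contra hcon
  push Not at hcon
  have := C.finite_H
  have h3 := Subgroup.card_le_of_le (H := X) (K := Xi) hcon
  rw [F.card, F.pi_card] at h3
  norm_num at h3

/-- `x` with `C_V(Ξ) = {0, a, x, x + a}`. -/
structure Cen (ρ : H →* (V ≃ₗ[ZMod 2] V)) (a : V) (D : Submodule (ZMod 2) V) (X Xi : Subgroup H)
    (x : V) : Prop extends Pt ρ a D X Xi x where
  /-- (1) -/
  cen : ∀ v, (∀ y ∈ Xi, ρ y v = v) → v = 0 ∨ v = a ∨ v = x ∨ v = x + a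

theorem Pt.apply_out (C : Cfg ρ b q a D X w) {x : V} (h : Pt ρ a D X Xi x) {y : H} (hy : y ∈ X)
    (hyn : y ∉ Xi) : ρ y x = x + a := by
  rcases C.X_D y hy x h.mem with h1 | h1
  · exact absurd ((h.fix y hy).2 h1) hyn
  · exact h1

theorem Pt.apply_out' (C : Cfg ρ b q a D X w) {x : V} (h : Pt ρ a D X Xi x) {y : H} (hy : y ∈ X)
    (hyn : y ∉ Xi) : ρ y (x + a) = x := by
  rw [map_add, h.apply_out C hy hyn, C.X_a hy, C.add_add_self]

/-- `J = C_H(x) ∩ H_a` normalises `Ξ`. -/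
theorem Pt.conj_mem (C : Cfg ρ b q a D X w) {x : V} (h : Pt ρ a D X Xi x) (hle : Xi ≤ X)
    {g : H} (hgx : ρ g x = x) (hga : ρ g a = a) {y : H} (hy : y ∈ Xi) : g * y * g⁻¹ ∈ Xi := by
  have h1 := C.X_norm g hga y (hle hy)
  rw [h.fix _ h1, C.ρ_mul, C.ρ_mul, C.fix_inv hgx, (h.fix y (hle hy)).1 hy, hgx]

namespace Cen

variable {x : V}

/-- `N_H(X) ∩ N_H(Ξ) = J ∪ J y`. -/
theorem exists_dec (C : Cfg ρ b q a D X w) (F : CoFacts X Xi Xf P) (h : Cen ρ a D X Xi x)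
    {g : H} (hg : g ∈ normalizer (X : Set H) ⊓ normalizer (Xi : Set H)) {y : H} (hy : y ∈ X)
    (hyn : y ∉ Xi) : ∃ k, ρ k x = x ∧ ρ k a = a ∧ (g = k ∨ g = k * y) := by
  have hga : ρ g a = a := (mem_N_iff C).1 (mem_inf.1 hg).1
  have hgn := (mem_inf.1 hg).2
  have h1 : ∀ y ∈ Xi, ρ y (ρ g x) = ρ g x := by
    intro y hy
    have h2 : g⁻¹ * y * g ∈ Xi := by
      have h3 := (mem_normalizer_iff.1 (inv_mem hgn) y).1 hy
      rwa [inv_inv] at h3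
    have h3 := (h.fix _ (F.pi_le h2)).1 h2
    rw [← C.ρ_mul]
    have h5 : y * g = g * (g⁻¹ * y * g) := by group
    rw [h5, C.ρ_mul, h3]
  rcases h.cen _ h1 with h2 | h2 | h2 | h2
  · exfalso
    apply h.ne0
    have h3 := C.ρ_inv_apply g x
    rw [h2, map_zero] at h3
    exact h3.symm
  · exfalso
    apply h.nea
    exact C.ρ_inj g (h2.trans hga.symm)
  · exact ⟨g, h2, hga, Or.inl rfl⟩
  · refine ⟨g * y⁻¹, ?_, ?_, Or.inr (by group)⟩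
    · rw [C.ρ_mul, C.X_inv hy, h.apply_out C hy hyn, map_add, h2, hga, C.add_add_self]
    · rw [C.ρ_mul, C.X_inv hy, C.X_a hy, hga]

/-- a `J`-invariant subgroup of `X` is normalised by `N_H(X) ∩ N_H(Ξ)`. -/
theorem le_normalizer_of_J (C : Cfg ρ b q a D X w) (F : CoFacts X Xi Xf P)
    (h : Cen ρ a D X Xi x) {Y : Subgroup H} (hY : Y ≤ X)
    (hn : ∀ k, ρ k x = x → ρ k a = a → ∀ y ∈ Y, k * y * k⁻¹ ∈ Y) :
    normalizer (X : Set H) ⊓ normalizer (Xi : Set H) ≤ normalizer (Y : Set H) := by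
  obtain ⟨y0, hy0, hy0n⟩ := exists_out C F
  refine le_normalizer_of fun g hg y hy => ?_
  obtain ⟨k, hk, hka, rfl | rfl⟩ := h.exists_dec C F hg hy0 hy0n
  · exact hn _ hk hka y hy
  · have e : k * y0 * y * (k * y0)⁻¹ = k * (y0 * y * y0⁻¹) * k⁻¹ := by group
    rw [e]
    have e2 : y0 * y * y0⁻¹ = y := by
      rw [C.X_comm hy0 (hY hy), mul_inv_cancel_right]
    rw [e2]
    exact hn _ hk hka y hy

/-- a `J`-invariant subgroup `≠ 1` of `X` contains `Ξ`. -/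
theorem le_of_J (C : Cfg ρ b q a D X w) (F : CoFacts X Xi Xf P)
    (h : Cen ρ a D X Xi x) {Y : Subgroup H} (hY : Y ≤ X) (hne : Y ≠ ⊥)
    (hn : ∀ k, ρ k x = x → ρ k a = a → ∀ y ∈ Y, k * y * k⁻¹ ∈ Y) : Xi ≤ Y :=
  F.pi_min Y hY hne (h.le_normalizer_of_J C F hY hn)

theorem stab_irr (C : Cfg ρ b q a D X w) (F : CoFacts X Xi Xf P)
    (h : Cen ρ a D X Xi x) (Y : Subgroup H) (hY : Y ≤ Xi)
    (hn : ∀ g, ρ g a = a → ρ g x = x → ∀ y ∈ Y, g * y * g⁻¹ ∈ Y) : Y = ⊥ ∨ Y = Xi := by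
  by_cases hne : Y = ⊥
  · exact Or.inl hne
  · exact Or.inr (le_antisymm hY (h.le_of_J C F (hY.trans F.pi_le) hne fun k hk hka => hn k hka hk))

/-- a normal 2-subgroup of `J` lies in `Ξ`. -/
theorem stab_two (C : Cfg ρ b q a D X w) (F : CoFacts X Xi Xf P)
    (h : Cen ρ a D X Xi x) (U : Subgroup H) (hUax : ∀ u ∈ U, ρ u a = a ∧ ρ u x = x)
    (hU : IsPGroup 2 U)
    (hn : ∀ k, ρ k a = a → ρ k x = x → ∀ u ∈ U, k * u * k⁻¹ ∈ U) : U ≤ Xi := by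
  have : Fact (Nat.Prime 2) := ⟨Nat.prime_two⟩
  obtain ⟨y0, hy0, hy0n⟩ := exists_out C F
  have hy00 : y0 * y0 = 1 := C.X_sq y0 hy0
  have hy01 : y0⁻¹ = y0 := C.X_inv hy0
  -- conjugation by `y0` normalises `J`
  have hJ : ∀ k, ρ k a = a → ρ k x = x → ρ (y0 * k * y0⁻¹) a = a ∧ ρ (y0 * k * y0⁻¹) x = x := by
    intro k hka hk
    constructor
    · rw [C.ρ_mul, C.ρ_mul, hy01, C.X_a hy0, hka, C.X_a hy0]
    · rw [C.ρ_mul, C.ρ_mul, hy01, h.apply_out C hy0 hy0n, map_add, hk, hka,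
        h.apply_out' C hy0 hy0n]
  let U' : Subgroup H := U.map (MulAut.conj y0).toMonoidHom
  have hmem : ∀ u ∈ U, y0 * u * y0⁻¹ ∈ U' := fun u hu => ⟨u, hu, rfl⟩
  have hU' : IsPGroup 2 U' := hU.map _
  have hU'n : ∀ k, ρ k a = a → ρ k x = x → ∀ u ∈ U', k * u * k⁻¹ ∈ U' := by
    rintro k hka hk _ ⟨u, hu, rfl⟩
    have h1 := hJ k hka hk
    have h2 := hn (y0 * k * y0⁻¹) h1.1 h1.2 u hu
    refine ⟨_, h2, ?_⟩
    show y0 * (y0 * k * y0⁻¹ * u * (y0 * k * y0⁻¹)⁻¹) * y0⁻¹ = k * (y0 * u * y0⁻¹) * k⁻¹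
    have e : y0 * (y0 * k * y0⁻¹ * u * (y0 * k * y0⁻¹)⁻¹) * y0⁻¹ =
      (y0 * y0) * k * (y0⁻¹ * u * y0) * k⁻¹ * (y0 * y0)⁻¹ := by group
    rw [e, hy00, hy01]
    group
  have hsub : ∀ u ∈ U', ρ u a = a ∧ ρ u x = x := by
    rintro _ ⟨u, hu, rfl⟩
    exact hJ u (hUax u hu).1 (hUax u hu).2
  have hsplit : ∀ u ∈ U ⊔ U', ∃ u1 ∈ U, ∃ u2 ∈ U', u = u1 * u2 := fun u hu =>
    exists_of_mem_sup (fun v hv u hu => hn v (hsub v hv).1 (hsub v hv).2 u hu) hu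
  have hsup : IsPGroup 2 (U ⊔ U' : Subgroup H) := by
    refine IsPGroup.to_sup_of_normal_right' hU hU' ?_
    exact le_normalizer_of fun u hu v hv => hU'n u (hUax u hu).1 (hUax u hu).2 v hv
  have hsupJ : ∀ u ∈ U ⊔ U', ρ u a = a ∧ ρ u x = x := by
    intro u hu
    obtain ⟨u1, h1, u2, h2, rfl⟩ := hsplit u hu
    rw [C.ρ_mul, C.ρ_mul, (hsub u2 h2).1, (hsub u2 h2).2]
    exact hUax u1 h1
  have hX : U ⊔ U' ≤ X := by
    apply F.pi_two
    · intro u hu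
      have h1 := hsupJ u hu
      refine mem_inf.2 ⟨(mem_N_iff C).2 h1.1, ?_⟩
      have h2 : zpowers u ≤ normalizer (Xi : Set H) := by
        refine le_normalizer_of fun k hk y hy => ?_
        have h3 := hsupJ k ((zpowers_le.2 hu) hk)
        exact h.conj_mem C F.pi_le h3.2 h3.1 hy
      exact h2 (mem_zpowers u)
    · exact hsup
    · have hcc : ∀ k, ρ k x = x → ρ k a = a → ∀ u ∈ U ⊔ U', k * u * k⁻¹ ∈ U ⊔ U' := by
        intro k hk hka u hu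
        obtain ⟨u1, h1, u2, h2, rfl⟩ := hsplit u hu
        have e : k * (u1 * u2) * k⁻¹ = k * u1 * k⁻¹ * (k * u2 * k⁻¹) := by group
        rw [e]
        exact mul_mem_sup (hn k hka hk u1 h1) (hU'n k hka hk u2 h2)
      have hyy : ∀ u ∈ U ⊔ U', y0 * u * y0⁻¹ ∈ U ⊔ U' := by
        intro u hu
        obtain ⟨u1, h1, u2, h2, rfl⟩ := hsplit u hu
        have e : y0 * (u1 * u2) * y0⁻¹ = y0 * u1 * y0⁻¹ * (y0 * u2 * y0⁻¹) := by group
        rw [e]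
        refine mul_mem ((le_sup_right : U' ≤ U ⊔ U') (hmem u1 h1)) ?_
        obtain ⟨u3, h3, rfl⟩ := h2
        refine (le_sup_left : U ≤ U ⊔ U') ?_
        show y0 * (y0 * u3 * y0⁻¹) * y0⁻¹ ∈ U
        have e2 : y0 * (y0 * u3 * y0⁻¹) * y0⁻¹ = (y0 * y0) * u3 * (y0 * y0)⁻¹ := by group
        rw [e2, hy00, one_mul, inv_one, mul_one]
        exact h3
      refine le_normalizer_of fun g hg u hu => ?_
      obtain ⟨k, hk, hka, rfl | rfl⟩ := h.exists_dec C F hg hy0 hy0n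
      · exact hcc _ hk hka u hu
      · have e : k * y0 * u * (k * y0)⁻¹ = k * (y0 * u * y0⁻¹) * k⁻¹ := by group
        rw [e]
        exact hcc k hk hka _ (hyy u hu)
  intro u hu
  exact (h.fix u (hX (mem_sup_left hu))).2 (hUax u hu).2

end Cen

end Cfsg.Agent.Omega.EH3.CoTwo
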