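import Cfsg.Agent.Omega.EH3.Cfg

/-!
# EH3: the trilinear form (helper665, for the row `Co₂`)

For the configuration `C : Cfg ρ b q a D X w` : `D^⊥ = D`, `(a^⊥)^⊥ = ⟨a⟩`, `C_V(X) = {0, a}`,
`σ : X → a^⊥/D` is bijective, and `T c x y t = b([c, x, y], [c, t])` is symmetric, alternating, additive in each
variable, independent of `c ∉ a^⊥` and nondegenerate.
-/

set_option autoImplicit false
set_option linter.unusedSectionVars false
set_option linter.unusedVariables false

namespace Cfsg.Agent.Omega.EH3.CoTwo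

open Subgroup Cfsg.Agent.Omega.EH3

variable {H V : Type*} [Group H] [AddCommGroup V] [Module (ZMod 2) V]
  {ρ : H →* (V ≃ₗ[ZMod 2] V)} {b : LinearMap.BilinForm (ZMod 2) V} {q : V → ZMod 2}
  {a : V} {D : Submodule (ZMod 2) V} {X : Subgroup H} {w : ℕ}

/-- `[v, x] = x v + v`. -/
def cm (ρ : H →* (V ≃ₗ[ZMod 2] V)) (x : H) (v : V) : V := ρ x v + v

theorem cm_add (x : H) (u v : V) : cm ρ x (u + v) = cm ρ x u + cm ρ x v := by
  unfold cm; rw [map_add]; abel

theorem cm_zero (x : H) : cm ρ x (0 : V) = 0 := by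
  unfold cm; rw [map_zero, add_zero]

/-- `T c x y t = b([c, x, y], [c, t])`. -/
def TT (ρ : H →* (V ≃ₗ[ZMod 2] V)) (b : LinearMap.BilinForm (ZMod 2) V) (c : V) (x y t : H) :
    ZMod 2 := b (cm ρ y (cm ρ x c)) (cm ρ t c)

theorem cm_eq_zero_iff (C : Cfg ρ b q a D X w) {x : H} {v : V} : cm ρ x v = 0 ↔ ρ x v = v :=
  C.add_eq_zero

theorem rho_eq (C : Cfg ρ b q a D X w) (x : H) (v : V) : ρ x v = v + cm ρ x v := by
  unfold cm
  rw [add_comm (ρ x v) v, ← add_assoc, C.add_self, zero_add]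

theorem cm_mul (C : Cfg ρ b q a D X w) (x y : H) (v : V) :
    cm ρ (x * y) v = cm ρ x v + cm ρ y v + cm ρ x (cm ρ y v) := by
  unfold cm
  rw [C.ρ_mul, map_add]
  have h2 : ρ x v + v + (ρ y v + v) + (ρ x (ρ y v) + ρ x v + (ρ y v + v)) =
      ρ x (ρ y v) + v + (ρ x v + ρ x v) + (v + v) + (ρ y v + ρ y v) := by abel
  rw [h2, C.add_self (ρ x v), C.add_self v, C.add_self (ρ y v), add_zero, add_zero, add_zero]

theorem cm_conj (C : Cfg ρ b q a D X w) (h x : H) (v : V) :
    cm ρ (h * x * h⁻¹) (ρ h v) = ρ h (cm ρ x v) := by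
  unfold cm
  rw [map_add, ← C.ρ_mul, ← C.ρ_mul, inv_mul_cancel_right]

theorem cm_comm (C : Cfg ρ b q a D X w) {x y : H} (hxy : x * y = y * x) (v : V) :
    cm ρ x (cm ρ y v) = cm ρ y (cm ρ x v) := by
  unfold cm
  rw [map_add, map_add, ← C.ρ_mul, ← C.ρ_mul, hxy]
  abel

theorem cm_self (C : Cfg ρ b q a D X w) {x : H} (hx : x ∈ X) (v : V) : cm ρ x (cm ρ x v) = 0 := by
  rw [cm_eq_zero_iff C]
  exact C.X_fix_delta hx v

/-- `b([u, x], v) = b(u, [v, x])`. -/
theorem b_cm (C : Cfg ρ b q a D X w) {x : H} (hx : x ∈ X) (u v : V) :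
    b (cm ρ x u) v = b u (cm ρ x v) := by
  have h := C.b_inv x u (ρ x v)
  rw [← C.ρ_mul, C.X_sq x hx, C.ρ_one] at h
  unfold cm
  rw [map_add, map_add, LinearMap.add_apply, h]

theorem cm_perp (C : Cfg ρ b q a D X w) {x : H} (hx : x ∈ X) (v : V) : b a (cm ρ x v) = 0 :=
  C.b_a_delta (C.X_a hx) v

theorem cm_D (C : Cfg ρ b q a D X w) {x : H} (hx : x ∈ X) {d : V} (hd : d ∈ D) :
    cm ρ x d = 0 ∨ cm ρ x d = a := by
  rcases C.X_D x hx d hd with h | h
  · left; exact (cm_eq_zero_iff C).2 h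
  · right
    unfold cm
    rw [h, add_comm d a, add_assoc, C.add_self, add_zero]

theorem cm_P (C : Cfg ρ b q a D X w) {x : H} (hx : x ∈ X) {v : V} (hv : b a v = 0) :
    cm ρ x v ∈ D := C.X_perp x hx v hv

theorem cm_a (C : Cfg ρ b q a D X w) {x : H} (hx : x ∈ X) : cm ρ x a = 0 :=
  (cm_eq_zero_iff C).2 (C.X_a hx)

/-- `(a^⊥)^⊥ = ⟨a⟩`. -/
theorem mem_a (C : Cfg ρ b q a D X w) {v : V} (h : ∀ u, b a u = 0 → b u v = 0) :
    v = 0 ∨ v = a := by
  obtain ⟨c, hc⟩ := C.exists_off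
  have h2 : ∀ u, b u v = b c v * b a u := by
    intro u
    rcases zmod_two (b a u) with h3 | h3
    · rw [h u h3, h3, mul_zero]
    · have h4 : b a (u + c) = 0 := by rw [map_add, h3, hc]; decide
      have h5 := h _ h4
      rw [map_add, LinearMap.add_apply] at h5
      have h6 : ∀ r s : ZMod 2, r + s = 0 → r = s * 1 := by decide
      rw [h3]
      exact h6 _ _ h5
  rcases zmod_two (b c v) with h3 | h3
  · left
    apply C.nondeg
    intro u
    rw [C.b_comm, h2, h3, zero_mul]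
  · right
    rw [← C.add_eq_zero]
    apply C.nondeg
    intro u
    rw [C.b_comm, map_add, h2, h3, one_mul, C.b_comm u a]
    exact CharTwo.add_self_eq_zero _

theorem nondeg (C : Cfg ρ b q a D X w) : b.Nondegenerate :=
  ⟨fun v h => C.nondeg v h, fun v h => C.nondeg v fun u => by rw [C.b_comm]; exact h u⟩

theorem finrank_V (C : Cfg ρ b q a D X w) : Module.finrank (ZMod 2) V = 2 * w := by
  have := C.finite_V
  have h1 := Module.natCard_eq_pow_finrank (K := ZMod 2) (V := V)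
  rw [C.card_V, Nat.card_zmod] at h1
  exact (Nat.pow_right_injective le_rfl h1).symm

theorem finrank_D (C : Cfg ρ b q a D X w) : Module.finrank (ZMod 2) D = w := by
  have := C.finite_V
  have h1 := Module.natCard_eq_pow_finrank (K := ZMod 2) (V := D)
  rw [C.card_D, Nat.card_zmod] at h1
  exact (Nat.pow_right_injective le_rfl h1).symm

/-- `D^⊥ = D`. -/
theorem perp_D (C : Cfg ρ b q a D X w) {v : V} (h : ∀ d ∈ D, b d v = 0) : v ∈ D := by
  have := C.finite_V
  have h1 := LinearMap.BilinForm.finrank_orthogonal (nondeg C) D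
  rw [finrank_V C, finrank_D C] at h1
  have h2 : D ≤ b.orthogonal D := by
    intro d hd
    rw [LinearMap.BilinForm.mem_orthogonal_iff]
    intro e he
    exact C.b_D he hd
  have h3 : D = b.orthogonal D :=
    Submodule.eq_of_le_of_finrank_le h2 (by rw [h1, finrank_D C]; omega)
  rw [h3, LinearMap.BilinForm.mem_orthogonal_iff]
  exact h

/-- the hyperplane `a^⊥`. -/
def aP (b : LinearMap.BilinForm (ZMod 2) V) (a : V) : Submodule (ZMod 2) V := LinearMap.ker (b a)

theorem mem_aP {v : V} : v ∈ aP b a ↔ b a v = 0 := LinearMap.mem_ker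

theorem card_aP (C : Cfg ρ b q a D X w) : Nat.card (aP b a) = 2 ^ (2 * w - 1) := by
  have := C.finite_V
  have h1 := LinearMap.finrank_range_add_finrank_ker (b a)
  have h2 : LinearMap.range (b a) = ⊤ := by
    rw [LinearMap.range_eq_top]
    intro r
    obtain ⟨c, hc⟩ := C.exists_off
    refine ⟨r • c, ?_⟩
    rw [map_smul, hc, smul_eq_mul, mul_one]
  rw [h2, finrank_top, Module.finrank_self, finrank_V C] at h1
  have h3 := Module.natCard_eq_pow_finrank (K := ZMod 2) (V := aP b a)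
  rw [h3, Nat.card_zmod]
  congr 1
  unfold aP
  omega

/-- **`σ` is surjective**: `a^⊥ = {[c, y] + d}`. -/
theorem exists_sigma (C : Cfg ρ b q a D X w) {c : V} (hc : b a c = 1) {v : V} (hv : b a v = 0) :
    ∃ y ∈ X, v + cm ρ y c ∈ D := by
  classical
  have := C.finite_V
  have := C.finite_H
  let f : X × D → aP b a := fun p =>
    ⟨cm ρ (p.1 : H) c + p.2, by
      rw [mem_aP, map_add, cm_perp C p.1.2, C.b_aD p.2.2, add_zero]⟩
  have hf : Function.Injective f := by
    rintro ⟨x, d⟩ ⟨y, e⟩ h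
    have h1 : cm ρ (x : H) c + (d : V) = cm ρ (y : H) c + e := congrArg Subtype.val h
    have h2 : cm ρ ((x : H) * y) c ∈ D := by
      rw [cm_mul C]
      refine D.add_mem ?_ (cm_P C x.2 (cm_perp C y.2 c))
      have h3 : cm ρ (x : H) c + cm ρ (y : H) c = (d : V) + e := by
        have h4 : cm ρ (x : H) c + cm ρ (y : H) c = (cm ρ (x : H) c + (d : V)) + d + cm ρ (y : H) c := by
          rw [C.add_add_self]
        rw [h4, h1]
        have h5 : cm ρ (y : H) c + (e : V) + d + cm ρ (y : H) c =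
          (d : V) + e + (cm ρ (y : H) c + cm ρ (y : H) c) := by abel
        rw [h5, C.add_self, add_zero]
      rw [h3]
      exact D.add_mem d.2 e.2
    have h3 := C.X_semi _ (X.mul_mem x.2 y.2) c hc h2
    have h4 : (x : H) = y := by
      rw [← C.X_inv y.2]
      exact eq_inv_of_mul_eq_one_left h3
    have h5 : x = y := Subtype.ext h4
    subst h5
    have h6 : (d : V) = e := add_left_cancel h1
    have h7 : d = e := Subtype.ext h6
    rw [h7]
  have hcard : Nat.card (X × D) = Nat.card (aP b a) := by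
    rw [Nat.card_prod, C.card_X, C.card_D, card_aP C, ← pow_add]
    congr 1
    have := C.five
    omega
  have hb := (Nat.bijective_iff_injective_and_card f).2 ⟨hf, hcard⟩
  obtain ⟨⟨y, d⟩, hyd⟩ := hb.2 ⟨v, mem_aP.2 hv⟩
  refine ⟨y, y.2, ?_⟩
  have h1 : cm ρ (y : H) c + (d : V) = v := congrArg Subtype.val hyd
  rw [← h1, add_comm (cm ρ (y : H) c) (d : V), C.add_add_self]
  exact d.2

/-! ### The trilinear form -/

section TT

variable (C : Cfg ρ b q a D X w) {c : V} (hc : b a c = 1)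

include C in
theorem cmcm_mem {x y : H} (hx : x ∈ X) (hy : y ∈ X) (v : V) : cm ρ y (cm ρ x v) ∈ D :=
  cm_P C hy (cm_perp C hx v)

include C in
theorem b_D_cmcm {x y : H} (hx : x ∈ X) (hy : y ∈ X) {d : V} (hd : d ∈ D) (v : V) :
    b (cm ρ y (cm ρ x v)) d = 0 := C.b_D (cmcm_mem C hx hy v) hd

include C in
/-- `b([c, x, y], v)` only depends on `v` mod `D`; and `b(⟨a⟩, [·, t]) = 0`. -/
theorem b_zero_a {e v : V} (he : e = 0 ∨ e = a) (hv : b a v = 0) : b e v = 0 := by
  rcases he with rfl | rfl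
  · simp
  · exact hv

include C in
theorem TT_comm12 {x y t : H} (hx : x ∈ X) (hy : y ∈ X) : TT ρ b c x y t = TT ρ b c y x t := by
  unfold TT
  rw [cm_comm C (C.X_comm hx hy)]

include C in
theorem TT_comm13 {x y t : H} (hx : x ∈ X) (hy : y ∈ X) (ht : t ∈ X) :
    TT ρ b c x y t = TT ρ b c t y x := by
  unfold TT
  rw [b_cm C hy, C.b_comm]

include C in
theorem TT_comm23 {x y t : H} (hx : x ∈ X) (hy : y ∈ X) (ht : t ∈ X) :
    TT ρ b c x y t = TT ρ b c x t y := by
  rw [TT_comm13 C hx hy ht, TT_comm12 C ht hy, TT_comm13 C hy ht hx]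

include C in
theorem TT_self12 {x t : H} (hx : x ∈ X) : TT ρ b c x x t = 0 := by
  unfold TT
  rw [cm_self C hx]
  simp

include C in
theorem TT_self13 {x y : H} (hx : x ∈ X) (hy : y ∈ X) : TT ρ b c x y x = 0 := by
  rw [TT_comm23 C hx hy hx]
  exact TT_self12 C hx

include C in
theorem TT_self23 {x y : H} (hx : x ∈ X) (hy : y ∈ X) : TT ρ b c x y y = 0 := by
  rw [TT_comm12 C hx hy]
  exact TT_self13 C hy hx

include C in
theorem TT_mul1 {x x' y t : H} (hx : x ∈ X) (hx' : x' ∈ X) (hy : y ∈ X) (ht : t ∈ X) :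
    TT ρ b c (x * x') y t = TT ρ b c x y t + TT ρ b c x' y t := by
  unfold TT
  rw [cm_mul C, cm_add, cm_add, map_add, map_add, LinearMap.add_apply, LinearMap.add_apply]
  have h1 : b (cm ρ y (cm ρ x (cm ρ x' c))) (cm ρ t c) = 0 :=
    b_zero_a C (cm_D C hy (cmcm_mem C hx' hx c)) (cm_perp C ht c)
  rw [h1, add_zero]

include C in
theorem TT_mul2 {x y y' t : H} (hx : x ∈ X) (hy : y ∈ X) (hy' : y' ∈ X) (ht : t ∈ X) :
    TT ρ b c x (y * y') t = TT ρ b c x y t + TT ρ b c x y' t := by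
  rw [TT_comm12 C hx (X.mul_mem hy hy'), TT_mul1 C hy hy' hx ht, TT_comm12 C hy hx,
    TT_comm12 C hy' hx]

include C in
theorem TT_mul3 {x y t t' : H} (hx : x ∈ X) (hy : y ∈ X) (ht : t ∈ X) (ht' : t' ∈ X) :
    TT ρ b c x y (t * t') = TT ρ b c x y t + TT ρ b c x y t' := by
  rw [TT_comm13 C hx hy (X.mul_mem ht ht'), TT_mul1 C ht ht' hy hx, TT_comm13 C ht hy hx,
    TT_comm13 C ht' hy hx]

include C hc in
/-- independence of `c`. -/
theorem b_indep {c' c'' : V} (hc' : b a c' = 1) (hc'' : b a c'' = 1) {x y t : H} (hx : x ∈ X)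
    (hy : y ∈ X) (ht : t ∈ X) :
    b (cm ρ y (cm ρ x c')) (cm ρ t c'') = TT ρ b c x y t := by
  obtain ⟨δ, hδ, p1⟩ : ∃ δ, c' = c + δ ∧ b a δ = 0 :=
    ⟨c + c', by rw [← add_assoc, C.add_self, zero_add], by rw [map_add, hc, hc']; decide⟩
  obtain ⟨ε, hε, p2⟩ : ∃ ε, c'' = c + ε ∧ b a ε = 0 :=
    ⟨c + c'', by rw [← add_assoc, C.add_self, zero_add], by rw [map_add, hc, hc'']; decide⟩
  subst hδ
  subst hε
  unfold TT
  have h1 : b (cm ρ y (cm ρ x c)) (cm ρ t ε) = 0 := b_D_cmcm C hx hy (cm_P C ht p2) c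
  have h2 := cm_D C hy (cm_P C hx p1)
  have h3 := b_zero_a C h2 (cm_perp C ht c)
  have h4 := b_zero_a C h2 (cm_perp C ht ε)
  simp only [cm_add, map_add, LinearMap.add_apply, h1, h3, h4, add_zero]

include C hc in
/-- **(x4)** for `v ≡ [c, y]` mod `D`: `b([v, x], [c, t]) = T(y, x, t)`. -/
theorem b_eq_TT {v : V} {y : H} (hy : y ∈ X) (hv : v + cm ρ y c ∈ D) {x t : H} (hx : x ∈ X)
    (ht : t ∈ X) {c' : V} (hc' : b a c' = 1) : b (cm ρ x v) (cm ρ t c') = TT ρ b c y x t := by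
  have e1 : v = cm ρ y c + (v + cm ρ y c) := by
    rw [add_comm v, ← add_assoc, C.add_self, zero_add]
  rw [e1, cm_add, map_add, LinearMap.add_apply]
  rw [b_zero_a C (cm_D C hx hv) (cm_perp C ht c'), add_zero]
  exact b_indep C hc hc hc' hy hx ht

include C hc in
/-- the functional of `d ∈ D` is `t ↦ b(d, [c, t])`. -/
theorem b_functional {d : V} {t : H} (ht : t ∈ X) :
    (cm ρ t d = a → b d (cm ρ t c) = 1) ∧ (cm ρ t d = 0 → b d (cm ρ t c) = 0) := by
  rw [← b_cm C ht]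
  refine ⟨fun h => ?_, fun h => ?_⟩
  · rw [h, hc]
  · rw [h]; simp

include C hc in
/-- **`T` is nondegenerate.** -/
theorem eq_one_of_TT {y : H} (hy : y ∈ X) (h : ∀ x ∈ X, ∀ t ∈ X, TT ρ b c y x t = 0) : y = 1 := by
  by_contra hy1
  obtain ⟨v, hv, h1, h2⟩ := C.X_T y hy hy1
  have h3 : cm ρ y v = 0 ∨ cm ρ y v = a := by
    apply mem_a C
    intro u hu
    obtain ⟨t, ht, htu⟩ := exists_sigma C hc hu
    obtain ⟨x, hx, hxv⟩ := exists_sigma C hc hv
    have e1 : u = cm ρ t c + (u + cm ρ t c) := by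
      rw [add_comm u, ← add_assoc, C.add_self, zero_add]
    rw [e1, map_add, LinearMap.add_apply, C.b_comm, b_eq_TT C hc hx hxv hy ht hc,
      TT_comm12 C hx hy, h x hx t ht, zero_add]
    exact C.b_D htu (cm_P C hy hv)
  rcases h3 with h3 | h3
  · exact h1 h3
  · exact h2 h3

end TT

/-- `C_V(X) = {0, a}`, and more: `[v, X] ≤ ⟨a⟩` implies `v ∈ D`. -/
theorem mem_D_of (C : Cfg ρ b q a D X w) {v : V} (h : ∀ x ∈ X, cm ρ x v = 0 ∨ cm ρ x v = a) :
    v ∈ D := by
  obtain ⟨c, hc⟩ := C.exists_off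
  have hX : ∃ x ∈ X, x ≠ 1 := by
    by_contra hcon
    push Not at hcon
    have : X = ⊥ := (Subgroup.eq_bot_iff_forall X).2 hcon
    have h1 := C.card_X
    rw [this, Subgroup.card_bot] at h1
    have h2 := C.five
    have h3 : 2 ^ 1 ≤ 2 ^ (w - 1) := Nat.pow_le_pow_right (by norm_num) (by omega)
    omega
  have hD : ∀ x ∈ X, cm ρ x v ∈ D := by
    intro x hx
    rcases h x hx with h1 | h1
    · rw [h1]; exact D.zero_mem
    · rw [h1]; exact C.a_mem
  have hv : b a v = 0 := by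
    rcases zmod_two (b a v) with h1 | h1
    · exact h1
    · obtain ⟨x, hx, hx1⟩ := hX
      exact absurd (C.X_semi x hx v h1 (hD x hx)) hx1
  obtain ⟨y, hy, hyv⟩ := exists_sigma C hc hv
  have hy1 : y = 1 := by
    apply eq_one_of_TT C hc hy
    intro x hx t ht
    rw [← b_eq_TT C hc hy hyv hx ht hc]
    exact b_zero_a C (h x hx) (cm_perp C ht c)
  rw [hy1] at hyv
  have h2 : cm ρ (1 : H) c = 0 := by
    rw [cm_eq_zero_iff C]; exact C.ρ_one c
  rwa [h2, add_zero] at hyv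

/-- `C_V(X) = {0, a}`. -/
theorem fix_X (C : Cfg ρ b q a D X w) {v : V} (h : ∀ x ∈ X, ρ x v = v) : v = 0 ∨ v = a := by
  have hv : v ∈ D := mem_D_of C fun x hx => Or.inl ((cm_eq_zero_iff C).2 (h x hx))
  by_contra hcon
  push Not at hcon
  obtain ⟨h0, ha⟩ := hcon
  -- a functional vanishing at `a` and not at `v`
  have h1 : v ∉ Submodule.span (ZMod 2) {a} := by
    intro h2
    rw [Submodule.mem_span_singleton] at h2
    obtain ⟨r, hr⟩ := h2
    rcases zmod_two r with h3 | h3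
    · rw [h3, zero_smul] at hr; exact h0 hr.symm
    · rw [h3, one_smul] at hr; exact ha hr.symm
  obtain ⟨φ, hφ1, hφ2⟩ := Submodule.exists_dual_map_eq_bot_of_notMem h1 inferInstance
  have hφa : φ a = 0 := by
    have : φ a ∈ (Submodule.span (ZMod 2) {a}).map φ :=
      Submodule.mem_map_of_mem (Submodule.mem_span_singleton_self a)
    rw [hφ2] at this
    exact (Submodule.mem_bot _).1 this
  obtain ⟨x, hx, hxd⟩ := C.X_all φ hφa
  have h3 := hxd v hv
  rw [h x hx, zmod_two_ne hφ1, one_smul] at h3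
  apply C.a_ne
  have h4 : v + 0 = v + a := by rw [add_zero]; exact h3
  exact (add_left_cancel h4).symm

/-- a functional vanishing on a subspace of `D` containing `a`, nonzero at `v`: an element of `X` fixing the subspace
and moving `v`. -/
theorem exists_ann (C : Cfg ρ b q a D X w) {F : Submodule (ZMod 2) V} (hFD : F ≤ D) (haF : a ∈ F)
    {v : V} (hv : v ∈ D) (hvF : v ∉ F) : ∃ x ∈ X, (∀ f ∈ F, ρ x f = f) ∧ ρ x v = v + a := by
  obtain ⟨φ, hφ1, hφ2⟩ := Submodule.exists_dual_map_eq_bot_of_notMem hvF inferInstance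
  have hφ : ∀ f ∈ F, φ f = 0 := by
    intro f hf
    have : φ f ∈ F.map φ := Submodule.mem_map_of_mem hf
    rw [hφ2] at this
    exact (Submodule.mem_bot _).1 this
  obtain ⟨x, hx, hxd⟩ := C.X_all φ (hφ a haF)
  refine ⟨x, hx, fun f hf => ?_, ?_⟩
  · rw [hxd f (hFD hf), hφ f hf, zero_smul, add_zero]
  · rw [hxd v hv, zmod_two_ne hφ1, one_smul]

end Cfsg.Agent.Omega.EH3.CoTwo
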