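import Cfsg.Agent.Omega.EH3.CoTwo.Div

/-!
# EH3, row `Co₂`, (1): the vector `x̃ ∈ D` with `C_X(x̃) = Ξ`, and `C_V(Ξ) = {0, a, x̃, x̃ + a}` (helper665)
-/

set_option autoImplicit false
set_option linter.unusedSectionVars false
set_option linter.unusedVariables false

namespace Cfsg.Agent.Omega.EH3.CoTwo

open Subgroup Cfsg.Agent.Omega.EH3

variable {H V : Type*} [Group H] [AddCommGroup V] [Module (ZMod 2) V]
  {ρ : H →* (V ≃ₗ[ZMod 2] V)} {b : LinearMap.BilinForm (ZMod 2) V} {q : V → ZMod 2}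
  {a : V} {D : Submodule (ZMod 2) V} {X : Subgroup H} {w : ℕ} {Xi Xf P : Subgroup H}

theorem sigma_inj (C : Cfg ρ b q a D X w) {c : V} (hc : b a c = 1) {x y : H} (hx : x ∈ X)
    (hy : y ∈ X) {d e : V} (hd : d ∈ D) (he : e ∈ D) (h1 : cm ρ x c + d = cm ρ y c + e) :
    x = y ∧ d = e := by
  have h2 : cm ρ (x * y) c ∈ D := by
    rw [cm_mul C]
    refine D.add_mem ?_ (cm_P C hx (cm_perp C hy c))
    have h3 : cm ρ x c + cm ρ y c = d + e := by
      have h4 : cm ρ x c + cm ρ y c = (cm ρ x c + d) + d + cm ρ y c := by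
        rw [C.add_add_self]
      rw [h4, h1]
      have h5 : cm ρ y c + e + d + cm ρ y c = d + e + (cm ρ y c + cm ρ y c) := by abel
      rw [h5, C.add_self, add_zero]
    rw [h3]
    exact D.add_mem hd he
  have h3 := C.X_semi _ (X.mul_mem hx hy) c hc h2
  have h4 : x = y := by
    rw [← C.X_inv hy]
    exact eq_inv_of_mul_eq_one_left h3
  subst h4
  exact ⟨rfl, add_left_cancel h1⟩

/-- the annihilator in `D` of a subgroup of `X`. -/
theorem card_ann (C : Cfg ρ b q a D X w) {Y : Subgroup H} (hY : Y ≤ X) {k : ℕ}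
    (hk : Nat.card Y = 2 ^ k) :
    ∃ A : Submodule (ZMod 2) V, (∀ v, v ∈ A ↔ v ∈ D ∧ ∀ y ∈ Y, ρ y v = v) ∧
      Nat.card A = 2 ^ (w - k) := by
  have hfin := C.finite_V
  obtain ⟨c, hc⟩ := C.exists_off
  have hc1 : cm ρ (1 : H) c = 0 := by
    rw [cm_eq_zero_iff C]; exact C.ρ_one c
  let M : Submodule (ZMod 2) V :=
    { carrier := {v | ∃ y ∈ Y, v + cm ρ y c ∈ D}
      zero_mem' := ⟨1, Y.one_mem, by rw [hc1, add_zero]; exact D.zero_mem⟩
      add_mem' := by
        rintro u v ⟨x, hx, hu⟩ ⟨y, hy, hv⟩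
        refine ⟨x * y, Y.mul_mem hx hy, ?_⟩
        rw [cm_mul C]
        have h1 : u + v + (cm ρ x c + cm ρ y c + cm ρ x (cm ρ y c)) =
          (u + cm ρ x c) + (v + cm ρ y c) + cm ρ x (cm ρ y c) := by abel
        rw [h1]
        exact D.add_mem (D.add_mem hu hv) (cm_P C (hY hx) (cm_perp C (hY hy) c))
      smul_mem' := by
        rintro r v ⟨y, hy, hv⟩
        rcases zmod_two r with h | h
        · rw [h, zero_smul]
          exact ⟨1, Y.one_mem, by rw [hc1, add_zero]; exact D.zero_mem⟩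
        · rw [h, one_smul]
          exact ⟨y, hy, hv⟩ }
  have hM : ∀ v, v ∈ M ↔ ∃ y ∈ Y, v + cm ρ y c ∈ D := fun v => Iff.rfl
  have hcardM : Nat.card M = 2 ^ (k + w) := by
    let f : Y × D → M := fun p => ⟨cm ρ (p.1 : H) c + p.2, (hM _).2 ⟨p.1, p.1.2, by
      rw [add_comm (cm ρ (p.1 : H) c) (p.2 : V), C.add_add_self]
      exact p.2.2⟩⟩
    have hf : Function.Bijective f := by
      constructor
      · rintro ⟨x, d⟩ ⟨y, e⟩ h
        have h1 : cm ρ (x : H) c + (d : V) = cm ρ (y : H) c + e := congrArg Subtype.val h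
        obtain ⟨h2, h3⟩ := sigma_inj C hc (hY x.2) (hY y.2) d.2 e.2 h1
        rw [Subtype.ext h2, Subtype.ext h3]
      · rintro ⟨v, hv⟩
        obtain ⟨y, hy, hyv⟩ := (hM v).1 hv
        refine ⟨(⟨y, hy⟩, ⟨v + cm ρ y c, hyv⟩), ?_⟩
        apply Subtype.ext
        show cm ρ y c + (v + cm ρ y c) = v
        rw [add_comm, C.add_add_self]
    rw [← Nat.card_congr (Equiv.ofBijective f hf), Nat.card_prod, hk, C.card_D, ← pow_add]
  have hfrM : Module.finrank (ZMod 2) M = k + w := by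
    have h1 := Module.natCard_eq_pow_finrank (K := ZMod 2) (V := M)
    rw [hcardM, Nat.card_zmod] at h1
    exact (Nat.pow_right_injective le_rfl h1).symm
  refine ⟨b.orthogonal M, ?_, ?_⟩
  · intro v
    rw [LinearMap.BilinForm.mem_orthogonal_iff]
    constructor
    · intro h
      have hvD : v ∈ D := perp_D C fun d hd => h d ((hM d).2 ⟨1, Y.one_mem, by
        rw [hc1, add_zero]; exact hd⟩)
      refine ⟨hvD, fun y hy => ?_⟩
      have h1 : b (cm ρ y c) v = 0 := h _ ((hM _).2 ⟨y, hy, by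
        rw [C.add_self]; exact D.zero_mem⟩)
      rw [C.b_comm] at h1
      rcases cm_D C (hY hy) hvD with h2 | h2
      · exact (cm_eq_zero_iff C).1 h2
      · rw [(b_functional C hc (hY hy)).1 h2] at h1
        exact absurd h1 one_ne_zero
    · rintro ⟨hvD, hv⟩ m hm
      obtain ⟨y, hy, hmy⟩ := (hM m).1 hm
      have e1 : m = (m + cm ρ y c) + cm ρ y c := by rw [C.add_add_self]
      show b m v = 0
      rw [e1, map_add, LinearMap.add_apply, C.b_D hmy hvD, zero_add, C.b_comm]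
      exact (b_functional C hc (hY hy)).2 ((cm_eq_zero_iff C).2 (hv y hy))
  · have h1 := LinearMap.BilinForm.finrank_orthogonal (nondeg C) M
    rw [hfrM, finrank_V C] at h1
    have h2 := Module.natCard_eq_pow_finrank (K := ZMod 2) (V := b.orthogonal M)
    rw [Nat.card_zmod, h1] at h2
    rw [h2]
    congr 1
    omega

theorem w_eq (C : Cfg ρ b q a D X w) (F : CoFacts X Xi Xf P) : w = 11 := by
  have h1 := C.card_X
  rw [F.card] at h1
  have h2 := Nat.pow_right_injective le_rfl h1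
  have h3 := C.five
  omega

theorem Xi_index (F : CoFacts X Xi Xf P) : Xi.relIndex X = 2 := by
  have h1 := card_mul_relIndex' F.pi_le
  rw [F.pi_card, F.card] at h1
  have h2 : 2 ^ 9 * Xi.relIndex X = 2 ^ 9 * 2 := by rw [h1]; norm_num
  exact Nat.eq_of_mul_eq_mul_left (by norm_num) h2

/-- `x̃`: the vectors of `D` with `C_X(x̃) = Ξ`. -/
structure Pt (ρ : H →* (V ≃ₗ[ZMod 2] V)) (a : V) (D : Submodule (ZMod 2) V) (X Xi : Subgroup H)
    (x : V) : Prop where
  mem : x ∈ D
  ne0 : x ≠ 0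
  nea : x ≠ a
  fix : ∀ y ∈ X, y ∈ Xi ↔ ρ y x = x

theorem Pt.add_a (C : Cfg ρ b q a D X w) {x : V} (hx : Pt ρ a D X Xi x) :
    Pt ρ a D X Xi (x + a) where
  mem := D.add_mem hx.mem C.a_mem
  ne0 := fun h => hx.nea (C.add_eq_zero.1 h)
  nea := fun h => hx.ne0 (by
    have := congrArg (· + a) h
    simp only [C.add_add_self, C.add_self] at this
    exact this)
  fix := by
    intro y hy
    rw [hx.fix y hy, map_add, C.X_a hy]
    exact ⟨fun h => by rw [h], fun h => add_right_cancel h⟩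

section

variable (C : Cfg ρ b q a D X w) (F : CoFacts X Xi Xf P)

include C F in
theorem exists_point : ∃ x, Pt ρ a D X Xi x := by
  have hfin := C.finite_V
  obtain ⟨A, hA, hAc⟩ := card_ann C F.pi_le F.pi_card
  rw [w_eq C F] at hAc
  have h1 : ¬ (A : Set V) ⊆ {0, a} := by
    intro h
    have h2 := Set.ncard_le_ncard h (Set.toFinite _)
    have h3 : (A : Set V).ncard = 4 := by
      rw [← Nat.card_coe_set_eq]
      exact hAc.trans (by norm_num)
    have h4 : ({0, a} : Set V).ncard ≤ 1 + 1 := by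
      have := Set.ncard_insert_le (0 : V) {a}
      rwa [Set.ncard_singleton] at this
    omega
  rw [Set.not_subset] at h1
  obtain ⟨x, hx, hx'⟩ := h1
  simp only [Set.mem_insert_iff, Set.mem_singleton_iff, not_or] at hx'
  obtain ⟨hxD, hxX⟩ := (hA x).1 hx
  refine ⟨x, hxD, hx'.1, hx'.2, fun y hy => ⟨fun h => hxX y h, fun h => ?_⟩⟩
  by_contra hyXi
  have h5 : ∀ u ∈ X, ρ u x = x := by
    intro u hu
    by_cases hu' : u ∈ Xi
    · exact hxX u hu'
    · have h6 := hxX _ (mul_mem_of_two (Xi_index F) hy hu hyXi hu')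
      rw [C.ρ_mul] at h6
      have h7 : ρ y (ρ u x) = ρ y x := by rw [h6, h]
      exact C.ρ_inj y h7
  rcases fix_X C h5 with h6 | h6
  · exact hx'.1 h6
  · exact hx'.2 h6

include C F in
/-- `C_D(Ξ) = {0, a, x̃, x̃ + a}`. -/
theorem ann_Xi {x : V} (hx : Pt ρ a D X Xi x) {d : V} (hd : d ∈ D) (h : ∀ y ∈ Xi, ρ y d = d) :
    d = 0 ∨ d = a ∨ d = x ∨ d = x + a := by
  by_cases h0 : d = 0
  · exact Or.inl h0
  by_cases ha : d = a
  · exact Or.inr (Or.inl ha)
  have hsX : ∃ s ∈ X, s ∉ Xi := by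
    by_contra hcon
    push Not at hcon
    have h3 := @Subgroup.card_le_of_le H _ X Xi (@Finite.of_injective _ _ C.finite_H _ Subtype.val_injective) hcon
    rw [F.card, F.pi_card] at h3
    norm_num at h3
  obtain ⟨s, hs, hs'⟩ := hsX
  have h1 : ρ s x = x + a :=
    (C.X_D s hs x hx.mem).resolve_left fun h2 => hs' ((hx.fix s hs).2 h2)
  have h2 : ∀ y ∈ Xi, ρ y (d + x) = d + x := fun y hy => by
    rw [map_add, h y hy, (hx.fix y (F.pi_le hy)).1 hy]
  -- `s` moves `d`
  have h3 : ρ s d = d + a := by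
    refine (C.X_D s hs d hd).resolve_left fun h4 => ?_
    have h5 : ∀ u ∈ X, ρ u d = d := by
      intro u hu
      by_cases hu' : u ∈ Xi
      · exact h u hu'
      · have h6 := h _ (mul_mem_of_two (Xi_index F) hs hu hs' hu')
        rw [C.ρ_mul] at h6
        have h7 : ρ s (ρ u d) = ρ s d := by rw [h6, h4]
        exact C.ρ_inj s h7
    rcases fix_X C h5 with h6 | h6
    · exact h0 h6
    · exact ha h6
  have h4 : ρ s (d + x) = d + x := by
    rw [map_add, h3, h1]
    have : d + a + (x + a) = d + x + (a + a) := by abel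
    rw [this, C.add_self, add_zero]
  have h5 : ∀ u ∈ X, ρ u (d + x) = d + x := by
    intro u hu
    by_cases hu' : u ∈ Xi
    · exact h2 u hu'
    · have h6 := h2 _ (mul_mem_of_two (Xi_index F) hs hu hs' hu')
      rw [C.ρ_mul] at h6
      have h7 : ρ s (ρ u (d + x)) = ρ s (d + x) := by rw [h6, h4]
      exact C.ρ_inj s h7
  rcases fix_X C h5 with h6 | h6
  · exact Or.inr (Or.inr (Or.inl (C.add_eq_zero.1 h6)))
  · refine Or.inr (Or.inr (Or.inr ?_))
    have := congrArg (· + x) h6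
    simp only [C.add_add_self] at this
    rw [this, add_comm]

end

end Cfsg.Agent.Omega.EH3.CoTwo
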